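import Cfsg.Agent.Lib.J1Unique.Data
import Cfsg.Agent.S0111
import Mathlib

/-!
# The order of an involution centraliser in a simple group of order 175560

Every involution centraliser has order divisible by eight (Thompson transfer), and an involution
centralising an element of order three has a centraliser of order 120.
-/

set_option autoImplicit false
set_option linter.unusedSectionVars false

namespace CfsgLib.J1Unique

open Subgroup CfsgLib.SmallGroups CfsgLib.SmallGroups.Order175560

variable {G : Type*} [Group G] [Finite G]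

/-- Orbit and stabiliser for conjugation by a subgroup. -/
theorem card_conj_set (K : Subgroup G) (t : G) :
    {x : G | ∃ g ∈ K, g * t * g⁻¹ = x}.ncard *
      Nat.card (centralizer ({t} : Set G) ⊓ K : Subgroup G) = Nat.card K := by
  let act : MulAction K G :=
    MulAction.compHom G ((ConjAct.toConjAct.toMonoidHom : G →* ConjAct G).comp K.subtype)
  have hsm : ∀ (k : K) (y : G), k • y = (k : G) * y * (k : G)⁻¹ := fun k y => rfl
  have horb : MulAction.orbit K t = {x : G | ∃ g ∈ K, g * t * g⁻¹ = x} := by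
    ext x
    rw [MulAction.mem_orbit_iff, Set.mem_setOf_eq]
    exact ⟨fun ⟨k, hk⟩ => ⟨k, k.2, (hsm k t).symm.trans hk⟩,
      fun ⟨g, hg, e⟩ => ⟨⟨g, hg⟩, (hsm _ t).trans e⟩⟩
  have hst : MulAction.stabilizer K t = (centralizer ({t} : Set G)).subgroupOf K := by
    ext k
    rw [MulAction.mem_stabilizer_iff, mem_subgroupOf, hsm, mem_centralizer_singleton_iff,
      mul_inv_eq_iff_eq_mul]
  have h := (MulAction.stabilizer K t).card_mul_index
  rw [MulAction.index_stabilizer, horb, hst, ← inf_subgroupOf_right,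
    Nat.card_congr (subgroupOfEquivOfLe inf_le_right).toEquiv] at h
  rw [mul_comm]
  exact h

/-- An involution in a cyclic group of order four is the square of a generator. -/
theorem eq_sq_of_mem_zpowers {y x : G} (hy : orderOf y = 4) (hx : x ∈ zpowers y)
    (h2 : orderOf x = 2) : x = y ^ 2 := by
  obtain ⟨k, rfl⟩ := mem_zpowers_iff.mp hx
  have h1 : y ^ (k * 2) = 1 := by
    rw [zpow_mul, zpow_two, ← pow_two, ← h2, pow_orderOf_eq_one]
  have hne : y ^ k ≠ 1 := fun e => by rw [e, orderOf_one] at h2; omega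
  rw [← orderOf_dvd_iff_zpow_eq_one, hy] at h1
  rw [Ne, ← orderOf_dvd_iff_zpow_eq_one, hy] at hne
  rw [← zpow_natCast, zpow_eq_zpow_iff_modEq, hy, Int.modEq_iff_dvd]
  push_cast at h1 hne ⊢
  omega

/-- In a non-abelian simple group of order `175560`, eight divides every involution centraliser. -/
theorem eight_dvd_cent [IsSimpleGroup G] (hG : Nat.card G = 175560) {t : G} (ht : orderOf t = 2) :
    8 ∣ Nat.card (centralizer ({t} : Set G)) := by
  have : Fact (Nat.Prime 2) := ⟨Nat.prime_two⟩
  have hna := not_comm hG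
  obtain ⟨S, hS⟩ := (IsPGroup.of_card (p := 2) (n := 1)
    (by rw [Nat.card_zpowers, ht, pow_one]) : IsPGroup 2 (zpowers t)).exists_le_sylow
  have hScard : Nat.card (S : Subgroup G) = 8 := by
    simpa using card_sylow_eq (p := 2) (a := 3) (m := 21945) (by rw [hG]; norm_num) (by norm_num) S
  have htS : t ∈ (S : Subgroup G) := hS (mem_zpowers t)
  by_cases hcomm : ∀ a ∈ (S : Subgroup G), ∀ b ∈ (S : Subgroup G), a * b = b * a
  · rw [← hScard]
    exact card_dvd_of_le fun a ha => mem_centralizer_singleton_iff.mpr (hcomm a ha t htS)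
  -- an element of order four
  obtain ⟨y, hyS, hy4⟩ : ∃ y ∈ (S : Subgroup G), orderOf y = 4 := by
    by_contra hne
    push Not at hne
    refine hcomm fun a ha b hb => ?_
    have hsq : ∀ c ∈ (S : Subgroup G), c * c = 1 := fun c hc => by
      have hd : orderOf c ∣ 2 ^ 3 := by
        have := orderOf_dvd_natCard (⟨c, hc⟩ : (S : Subgroup G))
        rwa [Subgroup.orderOf_mk, hScard] at this
      obtain ⟨i, hi, he⟩ := (Nat.dvd_prime_pow Nat.prime_two).mp hd
      interval_cases i
      · have : c = 1 := orderOf_eq_one_iff.mp (by simpa using he)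
        rw [this, one_mul]
      · rw [← pow_two, ← orderOf_dvd_iff_pow_eq_one, he]; norm_num
      · exact absurd (by simpa using he) (hne c hc)
      · exfalso
        refine hne (c ^ 2) (pow_mem hc 2) ?_
        rw [orderOf_pow' c (by norm_num), he]
        norm_num
    have := hsq (a * b) (mul_mem ha hb)
    calc a * b = a * (a * b * (a * b)) * b := by rw [this, mul_one]
      _ = (a * a) * (b * a) * (b * b) := by group
      _ = b * a := by rw [hsq a ha, hsq b hb, one_mul, mul_one]
  set Q := zpowers y with hQ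
  have hQS : Q ≤ (S : Subgroup G) := zpowers_le.mpr hyS
  have hQi : Q.relIndex (S : Subgroup G) = 2 := by
    have h := Subgroup.card_mul_index (Q.subgroupOf (S : Subgroup G))
    rw [Nat.card_congr (subgroupOfEquivOfLe hQS).toEquiv, Nat.card_zpowers, hy4, hScard] at h
    rw [relIndex]
    omega
  -- the involution of `Q` is central in `S`
  have hzS : ∀ g ∈ (S : Subgroup G), g * y ^ 2 = y ^ 2 * g := by
    intro g hg
    have hn : (Q.subgroupOf (S : Subgroup G)).Normal := normal_of_index_eq_two hQi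
    have hmem : g * y * g⁻¹ ∈ Q := hn.conj_mem ⟨y, hyS⟩ (mem_zpowers y) ⟨g, hg⟩
    have hsq : g * y ^ 2 * g⁻¹ = y ^ 2 := by
      refine eq_sq_of_mem_zpowers hy4 ?_ ?_
      · rw [← conj_pow]
        exact pow_mem hmem 2
      · rw [show g * y ^ 2 * g⁻¹ = MulAut.conj g (y ^ 2) from rfl,
          MulEquiv.orderOf_eq (MulAut.conj g) (y ^ 2), orderOf_pow' y (by norm_num), hy4]
        norm_num
    exact mul_inv_eq_iff_eq_mul.mp hsq
  have key : ∃ g : G, g * t * g⁻¹ ∈ Q := by
    by_cases htQ : t ∈ Q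
    · exact ⟨1, by simpa using htQ⟩
    rcases Cfsg.Agent.S0111.result S Q hQS hQi t ht htS htQ with ⟨M, hM, hM2, -⟩ | h
    · exact absurd hM2 (index_ne_two_of_simple hna M)
    · exact h
  obtain ⟨g, hg⟩ := key
  have hz : g * t * g⁻¹ = y ^ 2 := eq_sq_of_mem_zpowers hy4 hg
    (by rw [← ht]; exact MulEquiv.orderOf_eq (MulAut.conj g) t)
  have hle : (S : Subgroup G) ≤ centralizer ({g * t * g⁻¹} : Set G) := fun a ha =>
    mem_centralizer_singleton_iff.mpr (by rw [hz]; exact hzS a ha)
  rw [← hScard]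
  refine (card_dvd_of_le hle).trans (dvd_of_eq ?_)
  refine Nat.card_congr (Equiv.subtypeEquiv (MulAut.conj g⁻¹).toEquiv fun a => ?_)
  rw [mem_centralizer_singleton_iff, mem_centralizer_singleton_iff]
  show a * (g * t * g⁻¹) = g * t * g⁻¹ * a ↔ g⁻¹ * a * g⁻¹⁻¹ * t = t * (g⁻¹ * a * g⁻¹⁻¹)
  constructor
  · intro h
    calc g⁻¹ * a * g⁻¹⁻¹ * t = g⁻¹ * (a * (g * t * g⁻¹)) * g := by group
      _ = g⁻¹ * (g * t * g⁻¹ * a) * g := by rw [h]
      _ = t * (g⁻¹ * a * g⁻¹⁻¹) := by group
  · intro h
    calc a * (g * t * g⁻¹) = g * (g⁻¹ * a * g⁻¹⁻¹ * t) * g⁻¹ := by group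
      _ = g * (t * (g⁻¹ * a * g⁻¹⁻¹)) * g⁻¹ := by rw [h]
      _ = g * t * g⁻¹ * a := by group

/-- An involution centralising a Sylow subgroup of prime order whose centraliser has twice odd
order. -/
theorem exists_index {p : ℕ} [hp : Fact p.Prime] (h1 : p ∣ Nat.card G) (h2 : ¬ p ^ 2 ∣ Nat.card G)
    (P : Sylow p G) {t : G} (ht : orderOf t = 2)
    (htP : (P : Subgroup G) ≤ centralizer ({t} : Set G)) {r : ℕ} (hr : Odd r)
    (hc : Nat.card (centralizer ((P : Subgroup G) : Set G)) = 2 * r) (hp2 : p ≠ 2) :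
    ∃ i, Nat.card (Sylow p (centralizer ({t} : Set G))) % p = 1 ∧ i * p ∣ r ∧
      Nat.card (Sylow p (centralizer ({t} : Set G))) *
          Nat.card (normalizer ((P : Subgroup G) : Set G)) =
        Nat.card (centralizer ({t} : Set G)) * i ∧
      i * Nat.card (centralizer ({t} : Set G) ⊓ centralizer ((P : Subgroup G) : Set G) : Subgroup G)
        = 2 * r ∧
      (i = 1 ↔ centralizer ((P : Subgroup G) : Set G) ≤ centralizer ({t} : Set G)) := by
  have : Fact (Nat.Prime 2) := ⟨Nat.prime_two⟩
  have hP := card_sylow_prime h1 h2 P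
  set C := centralizer ((P : Subgroup G) : Set G) with hC
  set N := normalizer ((P : Subgroup G) : Set G) with hN
  set T := centralizer ({t} : Set G) with hT
  have htC : t ∈ C := mem_centralizer_iff.mpr fun a ha =>
    mem_centralizer_singleton_iff.mp (htP ha)
  have hCN : C ≤ N := centralizer_le_normalizer _
  have hnormC : ∀ g ∈ N, ∀ c ∈ C, g * c * g⁻¹ ∈ C := by
    intro g hg c hc
    rw [mem_centralizer_iff]
    intro a ha
    have ha' : g⁻¹ * a * g ∈ (P : Subgroup G) := by
      have := (mem_normalizer_iff.mp (inv_mem hg) a).mp ha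
      rwa [inv_inv] at this
    have e := mem_centralizer_iff.mp hc _ ha'
    calc a * (g * c * g⁻¹) = g * (g⁻¹ * a * g * c) * g⁻¹ := by group
      _ = g * (c * (g⁻¹ * a * g)) * g⁻¹ := by rw [e]
      _ = g * c * g⁻¹ * a := by group
  -- the conjugates of `t` under the two groups are the same
  have hset : {x : G | ∃ g ∈ N, g * t * g⁻¹ = x} = {x : G | ∃ g ∈ C, g * t * g⁻¹ = x} := by
    ext x
    refine ⟨?_, fun ⟨g, hg, e⟩ => ⟨g, hCN hg, e⟩⟩
    rintro ⟨g, hg, rfl⟩
    have hxC := hnormC g hg t htC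
    have hxo : orderOf (g * t * g⁻¹) = 2 := by
      rw [← ht]; exact MulEquiv.orderOf_eq (MulAut.conj g) t
    have hC1 : (Nat.card C).factorization 2 = 1 := by
      rw [hc, Nat.factorization_mul (by norm_num) (Nat.ne_of_odd_add (by simpa using hr)),
        Finsupp.add_apply, Nat.prime_two.factorization_self,
        Nat.factorization_eq_zero_of_not_dvd (by obtain ⟨k, rfl⟩ := hr; omega)]
    let A : Sylow 2 C := Sylow.ofCard (zpowers (⟨t, htC⟩ : C))
      (by rw [Nat.card_zpowers, Subgroup.orderOf_mk, ht, hC1, pow_one])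
    let B : Sylow 2 C := Sylow.ofCard (zpowers (⟨g * t * g⁻¹, hxC⟩ : C))
      (by rw [Nat.card_zpowers, Subgroup.orderOf_mk, hxo, hC1, pow_one])
    obtain ⟨c, hcAB⟩ := MulAction.exists_smul_eq C A B
    refine ⟨c, c.2, ?_⟩
    have hmem : c * (⟨t, htC⟩ : C) * c⁻¹ ∈ zpowers (⟨g * t * g⁻¹, hxC⟩ : C) := by
      show c * (⟨t, htC⟩ : C) * c⁻¹ ∈ (B : Subgroup C)
      rw [← hcAB]
      exact ⟨⟨t, htC⟩, mem_zpowers _, rfl⟩
    obtain ⟨k, hk⟩ := mem_zpowers_iff.mp hmem
    have hk' : (g * t * g⁻¹) ^ k = (c : G) * t * (c : G)⁻¹ := by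
      simpa using congrArg Subtype.val hk
    rcases Int.even_or_odd k with ⟨j, rfl⟩ | ⟨j, rfl⟩
    · exfalso
      rw [← two_mul, zpow_mul, zpow_two, ← pow_two, show (g * t * g⁻¹) ^ 2 = 1 by
        rw [← hxo]; exact pow_orderOf_eq_one _, one_zpow] at hk'
      have : t = 1 := by
        have e := hk'.symm
        rw [mul_inv_eq_one] at e
        exact mul_left_cancel (e.trans (mul_one _).symm)
      rw [this, orderOf_one] at ht
      omega
    · rw [zpow_add, zpow_one, zpow_mul, zpow_two, ← pow_two, show (g * t * g⁻¹) ^ 2 = 1 by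
        rw [← hxo]; exact pow_orderOf_eq_one _, one_zpow, one_mul] at hk'
      exact hk'.symm
  set i := {x : G | ∃ g ∈ C, g * t * g⁻¹ = x}.ncard with hi
  have hiC : i * Nat.card (T ⊓ C : Subgroup G) = 2 * r := hc ▸ card_conj_set C t
  have hiN : i * Nat.card (T ⊓ N : Subgroup G) = Nat.card N := by
    rw [hi, ← hset]
    exact card_conj_set N t
  have hn := SylowLocal.card_eq_mul_inf P htP
  rw [inf_comm, ← hN] at hn
  refine ⟨i, mod_eq_one_card_sylow, ?_, ?_, hiC, ?_⟩
  · have hpd : p ∣ Nat.card (T ⊓ C : Subgroup G) :=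
      (dvd_of_eq hP.symm).trans (card_dvd_of_le (le_inf htP (sylow_le_centralizer hP)))
    have h2d : 2 ∣ Nat.card (T ⊓ C : Subgroup G) := by
      rw [← ht]
      exact Subgroup.orderOf_dvd_natCard _ ⟨mem_centralizer_singleton_iff.mpr rfl, htC⟩
    obtain ⟨s, hs⟩ :=
      ((Nat.coprime_primes Nat.prime_two hp.out).mpr (Ne.symm hp2)).mul_dvd_of_dvd_of_dvd h2d hpd
    refine ⟨s, ?_⟩
    have : i * p * s * 2 = r * 2 := by rw [mul_comm r, ← hiC, hs]; ring
    omega
  · rw [hn, ← hiN]
    ring
  · constructor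
    · intro h1'
      rw [h1', one_mul] at hiC
      have := eq_of_le_of_card_ge (inf_le_right : T ⊓ C ≤ C) (by rw [hc, hiC])
      exact inf_eq_right.mp this
    · intro hle
      rw [inf_eq_right.mpr hle, hc] at hiC
      exact Nat.eq_of_mul_eq_mul_right (by obtain ⟨k, rfl⟩ := hr; omega : 0 < 2 * r)
        (hiC.trans (one_mul _).symm)

/-! ### The order -/

/-- Centraliser orders allowed by the Sylow data. -/
def kOk (k : ℕ) : Bool :=
  let five := [1, 3].any fun i => (k * i) % 60 == 0 && (k * i / 60) % 5 == 1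
  let rest := fun (p N : ℕ) => k % p != 0 || (k % N == 0 && (k / N) % p == 1)
  (k * 5) % 60 == 0 && (k * 5 / 60) % 3 == 1 && (k % 5 != 0 || five) &&
    rest 7 42 && rest 11 110 && rest 19 114

/-- Centraliser orders allowed if `C(P₃)` centralises the involution. -/
def kCyc (k : ℕ) : Bool := k % 60 == 0 && (k / 60) % 15 == 1

theorem kTable : (divs.filter fun k => k % 24 == 0 && decide (k < 175560)).all
    (fun k => !(kCyc k) && (!(kOk k) || k == 120)) = true := by
  decide +kernel

variable [IsSimpleGroup G] (hG : Nat.card G = 175560)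
include hG

theorem card_normalizer_of_sel {p n : ℕ} [Fact p.Prime] (P : Sylow p G)
    (h : (sel G p).1 = n) : n * Nat.card (normalizer ((P : Subgroup G) : Set G)) = 175560 := by
  rw [← h, ← hG]
  exact card_sylow_mul_card_normalizer P

theorem card_cent_three (P : Sylow 3 G) :
    Nat.card (centralizer ((P : Subgroup G) : Set G)) = 30 := by
  have := Fact.mk Nat.prime_three
  rw [← sel_snd P, sel_three hG]

theorem card_norm_three (P : Sylow 3 G) :
    Nat.card (normalizer ((P : Subgroup G) : Set G)) = 60 := by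
  have := Fact.mk Nat.prime_three
  have := card_normalizer_of_sel hG P (congrArg Prod.fst (sel_three hG))
  simp only at this
  omega

theorem card_norm_five [Fact (Nat.Prime 5)] (P : Sylow 5 G) :
    Nat.card (normalizer ((P : Subgroup G) : Set G)) = 60 := by
  have := card_normalizer_of_sel hG P (n := 2926) (by rcases sel_five hG with h | h <;> rw [h])
  omega

theorem card_norm_seven [Fact (Nat.Prime 7)] (P : Sylow 7 G) :
    Nat.card (normalizer ((P : Subgroup G) : Set G)) = 42 := by
  have := card_normalizer_of_sel hG P (n := 4180) (by rcases sel_seven hG with h | h <;> rw [h])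
  omega

/-- Sylow subgroups of a centraliser are Sylow subgroups of the group. -/
theorem exists_sylow_le {p : ℕ} [hp : Fact p.Prime] (h1 : p ∣ Nat.card G)
    (h2 : ¬ p ^ 2 ∣ Nat.card G) {H : Subgroup G} (hH : p ∣ Nat.card H) :
    ∃ P : Sylow p G, (P : Subgroup G) ≤ H := by
  obtain ⟨y, hy⟩ := exists_prime_orderOf_dvd_card' _ hH
  have hf : (Nat.card G).factorization p = 1 := by
    have := (hp.out.pow_dvd_iff_le_factorization Nat.card_pos.ne').not.mp h2
    have := (hp.out.dvd_iff_one_le_factorization Nat.card_pos.ne').mp h1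
    omega
  exact ⟨Sylow.ofCard (zpowers (y : G))
    (by rw [Nat.card_zpowers, Subgroup.orderOf_coe, hy, hf, pow_one]), zpowers_le.mpr y.2⟩

/-- The centraliser of a Sylow subgroup centralised by an involution has twice odd order. -/
theorem card_cent_of_le {p : ℕ} [hp : Fact p.Prime] {a : ℕ} (P : Sylow p G) {t : G}
    (ht : orderOf t = 2) (htP : (P : Subgroup G) ≤ centralizer ({t} : Set G)) (hodd : Odd a)
    (hc : (sel G p).2 = a ∨ (sel G p).2 = 2 * a) :
    Nat.card (centralizer ((P : Subgroup G) : Set G)) = 2 * a := by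
  rw [← sel_snd P]
  refine hc.resolve_left fun h => ?_
  have h2 : 2 ∣ (sel G p).2 := by
    rw [sel_snd P, ← ht]
    exact Subgroup.orderOf_dvd_natCard _
      (mem_centralizer_iff.mpr fun x hx => mem_centralizer_singleton_iff.mp (htP hx))
  rw [h] at h2
  obtain ⟨k, rfl⟩ := hodd
  omega

/-- If an involution centralises an element of order three, its centraliser has order 120. -/
theorem card_cent (t : G) (ht : orderOf t = 2) (h3 : 3 ∣ Nat.card (centralizer ({t} : Set G))) :
    Nat.card (centralizer ({t} : Set G)) = 120 := by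
  have f3 := Fact.mk Nat.prime_three
  have f5 : Fact (Nat.Prime 5) := ⟨by norm_num⟩
  have f7 : Fact (Nat.Prime 7) := ⟨by norm_num⟩
  have f11 : Fact (Nat.Prime 11) := ⟨by norm_num⟩
  have f19 : Fact (Nat.Prime 19) := ⟨by norm_num⟩
  have hd : ∀ p ∈ [5, 3, 7, 11, 19], p ∣ Nat.card G ∧ ¬ p ^ 2 ∣ Nat.card G :=
    fun p hp => (oddPrime hG hp).2
  set T := centralizer ({t} : Set G) with hT
  set k := Nat.card T with hk
  have hklt : k < 175560 := by
    refine hG ▸ lt_of_le_of_ne (card_le_card_group T) fun e => ?_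
    have hTt : T = ⊤ := (card_eq_iff_eq_top T).mp e
    have hz : t ∈ center G := mem_center_iff.mpr fun g =>
      mem_centralizer_singleton_iff.mp (show g ∈ T from hTt ▸ mem_top g)
    have hbot := (IsSimpleGroup.eq_bot_or_eq_top_of_normal (center G) inferInstance).resolve_right
      fun h => not_comm hG ⟨⟨fun a b => (mem_center_iff.mp (h ▸ mem_top b) a)⟩⟩
    rw [hbot, mem_bot] at hz
    rw [hz, orderOf_one] at ht
    omega
  have h8 : 8 ∣ k := eight_dvd_cent hG ht
  have htable := List.all_eq_true.mp kTable k (List.mem_filter.mpr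
    ⟨mem_divs_of_dvd hG (card_subgroup_dvd_card T), by
      simp only [Bool.and_eq_true, beq_iff_eq, decide_eq_true_eq]
      exact ⟨by omega, hklt⟩⟩)
  simp only [Bool.and_eq_true, Bool.or_eq_true, Bool.not_eq_true', beq_iff_eq] at htable
  obtain ⟨P, hP⟩ := exists_sylow_le hG (hd 3 (by simp)).1 (hd 3 (by simp)).2 h3
  obtain ⟨i, hn, hi, he, -, hiff⟩ := exists_index (hd 3 (by simp)).1 (hd 3 (by simp)).2 P ht hP
    (r := 15) ⟨7, rfl⟩ (card_cent_three hG P) (by norm_num)
  rw [card_norm_three hG P, ← hk] at he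
  have hi' : i = 1 ∨ i = 5 := by
    have : i ∣ 5 := Nat.dvd_of_mul_dvd_mul_right (by norm_num : 0 < 3) (by simpa using hi)
    exact (Nat.dvd_prime (by norm_num)).mp this
  rcases hi' with rfl | rfl
  · exfalso
    obtain ⟨Q, hQ⟩ := exists_sylow_le hG (hd 5 (by simp)).1 (hd 5 (by simp)).2
      (H := centralizer ((P : Subgroup G) : Set G)) (by rw [card_cent_three hG P]; norm_num)
    have hPT := hiff.mp rfl
    have hQT : (Q : Subgroup G) ≤ T := hQ.trans hPT
    have hc5 := card_cent_of_le hG Q ht hQT (a := 15) ⟨7, rfl⟩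
      (by rcases sel_five hG with h | h <;> simp [h])
    -- the two centralisers coincide
    set CP := centralizer ((P : Subgroup G) : Set G) with hCP
    set CQ := centralizer ((Q : Subgroup G) : Set G) with hCQ
    have hP3 : Nat.card (P : Subgroup G) = 3 := card_sylow_prime (hd 3 (by simp)).1 (hd 3 (by simp)).2 P
    have hQ5 : Nat.card (Q : Subgroup G) = 5 := card_sylow_prime (hd 5 (by simp)).1 (hd 5 (by simp)).2 Q
    have d3 : 3 ∣ Nat.card (CP ⊓ CQ : Subgroup G) := (dvd_of_eq hP3.symm).trans (card_dvd_of_le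
      (le_inf (sylow_le_centralizer hP3) (le_centralizer_iff.mp hQ)))
    have d5 : 5 ∣ Nat.card (CP ⊓ CQ : Subgroup G) := (dvd_of_eq hQ5.symm).trans (card_dvd_of_le
      (le_inf hQ (sylow_le_centralizer hQ5)))
    have d2 : 2 ∣ Nat.card (CP ⊓ CQ : Subgroup G) := by
      rw [← ht]
      exact Subgroup.orderOf_dvd_natCard _
        ⟨mem_centralizer_iff.mpr fun x hx => mem_centralizer_singleton_iff.mp (hP hx),
          mem_centralizer_iff.mpr fun x hx => mem_centralizer_singleton_iff.mp (hQT hx)⟩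
    have hle : 30 ≤ Nat.card (CP ⊓ CQ : Subgroup G) := Nat.le_of_dvd Nat.card_pos (by omega)
    have e1 := eq_of_le_of_card_ge (inf_le_left : CP ⊓ CQ ≤ CP) (by rw [card_cent_three hG P]; exact hle)
    have e2 := eq_of_le_of_card_ge (inf_le_right : CP ⊓ CQ ≤ CQ) (by rw [hc5]; exact hle)
    have hQle : CQ ≤ T := e2 ▸ e1.symm ▸ hPT
    obtain ⟨i', hn', -, he', -, hiff'⟩ := exists_index (hd 5 (by simp)).1 (hd 5 (by simp)).2 Q ht
      hQT (r := 15) ⟨7, rfl⟩ hc5 (by norm_num)
    rw [hiff'.mpr hQle, card_norm_five hG Q, ← hk] at he'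
    have : kCyc k = true := by
      simp only [kCyc, Bool.and_eq_true, beq_iff_eq]
      omega
    rw [this] at htable
    exact Bool.noConfusion htable.1
  · refine (htable.2.resolve_left fun hk' => ?_)
    have rest : ∀ (p N a : ℕ) [Fact p.Prime], p ∈ [5, 3, 7, 11, 19] → p ≠ 2 → a = p →
        ((sel G p).2 = a ∨ (sel G p).2 = 2 * a) → Odd a →
        (∀ P : Sylow p G, Nat.card (normalizer ((P : Subgroup G) : Set G)) = N) → p ∣ k →
        k % N = 0 ∧ k / N % p = 1 := by
      intro p N a _ hp hp2 hap hc hodd hN hpk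
      subst hap
      obtain ⟨R, hR⟩ := exists_sylow_le hG (hd a hp).1 (hd a hp).2 hpk
      obtain ⟨j, hm, hj, hej, -⟩ := exists_index (hd a hp).1 (hd a hp).2 R ht hR (r := a) hodd
        (card_cent_of_le hG R ht hR hodd hc) hp2
      obtain rfl : j = 1 := Nat.dvd_one.mp
        (Nat.dvd_of_mul_dvd_mul_right (Fact.out : a.Prime).pos (by simpa using hj))
      rw [hN R, mul_one, ← hk] at hej
      have hN0 : 0 < N := hN R ▸ Nat.card_pos
      rw [← hej, Nat.mul_mod_left, Nat.mul_div_cancel _ hN0]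
      exact ⟨rfl, hm⟩
    have : kOk k = true := by
      simp only [kOk, Bool.and_eq_true, Bool.or_eq_true, beq_iff_eq, bne_iff_ne, List.any_eq_true]
      refine ⟨⟨⟨⟨⟨by omega, by omega⟩, ?_⟩, ?_⟩, ?_⟩, ?_⟩
      · refine (em (k % 5 = 0)).symm.imp id fun h5 => ?_
        obtain ⟨R, hR⟩ := exists_sylow_le hG (hd 5 (by simp)).1 (hd 5 (by simp)).2
          (Nat.dvd_of_mod_eq_zero h5)
        obtain ⟨j, hm, hj, hej, -⟩ := exists_index (hd 5 (by simp)).1 (hd 5 (by simp)).2 R ht hR
          (r := 15) ⟨7, rfl⟩ (card_cent_of_le hG R ht hR ⟨7, rfl⟩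
            (by rcases sel_five hG with h | h <;> simp [h])) (by norm_num)
        rw [card_norm_five hG R, ← hk] at hej
        have hj' : j = 1 ∨ j = 3 := by
          have : j ∣ 3 := Nat.dvd_of_mul_dvd_mul_right (by norm_num : 0 < 5) (by simpa using hj)
          exact (Nat.dvd_prime (by norm_num)).mp this
        exact ⟨j, by simpa using hj', by omega, by omega⟩
      · refine (em (k % 7 = 0)).symm.imp id fun h => rest 7 42 7 (by simp) (by norm_num) rfl
          (by rcases sel_seven hG with h' | h' <;> simp [h']) ⟨3, rfl⟩ (card_norm_seven hG)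
          (Nat.dvd_of_mod_eq_zero h)
      · refine (em (k % 11 = 0)).symm.imp id fun h => rest 11 110 11 (by simp) (by norm_num) rfl
          (by rcases sel_eleven hG with h' | h' <;> simp [h']) ⟨5, rfl⟩ (fun R => ?_)
          (Nat.dvd_of_mod_eq_zero h)
        have := card_normalizer_of_sel hG R (n := 1596)
          (by rcases sel_eleven hG with h' | h' <;> rw [h'])
        omega
      · refine (em (k % 19 = 0)).symm.imp id fun h => rest 19 114 19 (by simp) (by norm_num) rfl
          (by rcases sel_nineteen hG with h' | h' <;> simp [h']) ⟨9, rfl⟩ (fun R => ?_)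
          (Nat.dvd_of_mod_eq_zero h)
        have := card_normalizer_of_sel hG R (n := 1540)
          (by rcases sel_nineteen hG with h' | h' <;> rw [h'])
        omega
    rw [this] at hk'
    exact Bool.noConfusion hk'

/-- There is an involution whose centraliser has order 120. -/
theorem exists_cent : ∃ t : G, orderOf t = 2 ∧ Nat.card (centralizer ({t} : Set G)) = 120 := by
  have f2 := Fact.mk Nat.prime_two
  have f3 := Fact.mk Nat.prime_three
  obtain ⟨P⟩ : Nonempty (Sylow 3 G) := inferInstance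
  obtain ⟨y, hy⟩ := exists_prime_orderOf_dvd_card' (p := 2)
    (G := centralizer ((P : Subgroup G) : Set G)) (by rw [card_cent_three hG P]; norm_num)
  have hy' : orderOf (y : G) = 2 := by rw [Subgroup.orderOf_coe, hy]
  refine ⟨y, hy', card_cent hG _ hy' ?_⟩
  have hP3 : Nat.card (P : Subgroup G) = 3 :=
    card_sylow_prime (oddPrime hG (p := 3) (by simp)).2.1 (oddPrime hG (p := 3) (by simp)).2.2 P
  exact (dvd_of_eq hP3.symm).trans (card_dvd_of_le fun x hx =>
    mem_centralizer_singleton_iff.mpr (mem_centralizer_iff.mp y.2 x hx))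

end CfsgLib.J1Unique
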