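import Cfsg.Agent.Lib.SmallGroups.Order175560.Main
import Mathlib

/-!
# Sylow data of a simple group of order 175560

For the odd primes dividing the order the Sylow numbers are those of the first Janko group, and
the orders of the Sylow centralisers are nearly determined. The ingredients are the congruence and
divisibility conditions, the count of commuting pairs of Sylow subgroups of two primes, and a
count of elements.
-/

set_option autoImplicit false

namespace CfsgLib.J1Unique

open Subgroup CfsgLib.SmallGroups CfsgLib.SmallGroups.Order175560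

/-- The divisors of `175560`. -/
def divs : List ℕ := divsOf full

/-- The admissible pairs (Sylow number, order of the Sylow centraliser). -/
def optsU (p : ℕ) : List (ℕ × ℕ) :=
  divs.flatMap fun n =>
    (if n % p == 1 && decide (19 ≤ n) then divs else []).filterMap fun c =>
      if c % p == 0 && 175560 % (n * c) == 0 && 175560 / (n * c) != 1 &&
          (p - 1) % (175560 / (n * c)) == 0
      then some (n, c) else none

/-- The possible numbers of Sylow `q`-subgroups centralising a Sylow `p`-subgroup. -/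
def pairNums (c p q : ℕ) : List ℕ :=
  divs.filter fun a => (c / (p * q)) % a == 0 && a % q == 1

/-- The two ways of counting commuting pairs of Sylow subgroups agree. -/
def pairOk (p : ℕ) (o : ℕ × ℕ) (q : ℕ) (o' : ℕ × ℕ) : Bool :=
  o.2 % q != 0 || (pairNums o.2 p q).any fun a => (pairNums o'.2 q p).any fun b =>
    o.1 * a == o'.1 * b

/-- The expected data. -/
def expected (p : ℕ) (o : ℕ × ℕ) : Bool :=
  (p == 3 && o == (2926, 30)) || (p == 5 && (o == (2926, 15) || o == (2926, 30))) ||
    (p == 7 && (o == (4180, 7) || o == (4180, 14))) ||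
    (p == 11 && (o == (1596, 11) || o == (1596, 22))) ||
    (p == 19 && (o == (1540, 19) || o == (1540, 38)))

/-- Every admissible choice either contains too many elements or is the expected one. -/
def srch : List ℕ → List (ℕ × ℕ × ℕ) → Bool
  | [], done => decide (175560 ≤ total done []) || done.all fun x => expected x.1 x.2
  | p :: ps, done => (optsU p).all fun o =>
      !compat p o done || !(done.all fun x => pairOk p o x.1 x.2 && pairOk x.1 x.2 p o) ||
        srch ps ((p, o) :: done)

theorem srch_true : srch [5, 3, 7, 11, 19] [] = true := by decide +kernel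

variable {G : Type*} [Group G] [Finite G]

theorem mem_divs_of_dvd (hG : Nat.card G = 175560) {a : ℕ} (h : a ∣ Nat.card G) : a ∈ divs :=
  mem_divs (hG ▸ h)

theorem not_comm [IsSimpleGroup G] (hG : Nat.card G = 175560) : ¬ IsMulCommutative G :=
  not_isMulCommutative_of_not_prime (by rw [hG]; norm_num)

theorem sel_mem_optsU [IsSimpleGroup G] (hG : Nat.card G = 175560) {p : ℕ} [hp : Fact p.Prime]
    (h1 : p ∣ Nat.card G) (h2 : ¬ p ^ 2 ∣ Nat.card G) : sel G p ∈ optsU p := by
  have hna := not_comm hG
  obtain ⟨P⟩ : Nonempty (Sylow p G) := inferInstance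
  have hP := card_sylow_prime h1 h2 P
  set n := Nat.card (Sylow p G) with hn
  set N := normalizer ((P : Subgroup G) : Set G) with hN
  set C := centralizer ((P : Subgroup G) : Set G) with hC
  have hc : (sel G p).2 = Nat.card C := sel_snd P
  have hNG : n * Nat.card N = Nat.card G := card_sylow_mul_card_normalizer P
  have hCN : C ≤ N := centralizer_le_normalizer ((P : Subgroup G) : Set G)
  have h19 : 19 ∣ Nat.card G := hG ▸ (by norm_num : 19 ∣ 175560)
  have hn19 : 19 ≤ n := (Nat.Prime.dvd_factorial (by norm_num : Nat.Prime 19)).mp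
    ((dvd_mul_of_dvd_right h19 2).trans (two_mul_card_dvd_factorial_card_sylow hna h1))
  have hk : Nat.card C * (C.subgroupOf N).index = Nat.card N := by
    rw [← Nat.card_congr (subgroupOfEquivOfLe hCN).toEquiv]
    exact card_mul_index _
  have hk1 : (C.subgroupOf N).index ≠ 1 := fun e => not_normalizer_le_centralizer hna h1 P (by
    rw [index_eq_one, subgroupOf_eq_top] at e
    exact e)
  have hkp : (C.subgroupOf N).index ∣ p - 1 := by
    have := isCyclic_of_prime_card hP
    have key := card_dvd_of_injective _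
      (QuotientGroup.kerLift_injective (P : Subgroup G).normalizerMonoidHom)
    rw [normalizerMonoidHom_ker, ← index, IsCyclic.card_mulAut, hP, Nat.totient_prime hp.out] at key
    exact key
  have hpC : p ∣ Nat.card C := (dvd_of_eq hP.symm).trans (card_dvd_of_le (sylow_le_centralizer hP))
  set k := (C.subgroupOf N).index with hkdef
  have hd : Nat.card G = n * Nat.card C * k := by rw [mul_assoc, hk, hNG]
  have hdiv : Nat.card G / (n * Nat.card C) = k := by
    rw [hd]
    exact Nat.mul_div_cancel_left _ (Nat.mul_pos Nat.card_pos Nat.card_pos)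
  rw [hG] at hdiv
  refine List.mem_flatMap.mpr ⟨n, mem_divs_of_dvd hG card_sylow_dvd_card, List.mem_filterMap.mpr
    ⟨Nat.card C, ?_, ?_⟩⟩
  · rw [if_pos (by
      simp only [Bool.and_eq_true, beq_iff_eq, decide_eq_true_eq]
      exact ⟨mod_eq_one_card_sylow, hn19⟩)]
    exact mem_divs_of_dvd hG (card_subgroup_dvd_card C)
  · rw [if_pos (by
      simp only [hdiv, Bool.and_eq_true, beq_iff_eq, bne_iff_ne]
      exact ⟨⟨⟨Nat.mod_eq_zero_of_dvd hpC, Nat.mod_eq_zero_of_dvd ⟨k, hG.symm.trans hd⟩⟩, hk1⟩,
        Nat.mod_eq_zero_of_dvd hkp⟩)]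
    exact congrArg some (Prod.ext rfl hc.symm)

theorem sylow_smul_le {p q : ℕ} {P : Sylow p G} {Q : Sylow q G} (g : G)
    (h : (Q : Subgroup G) ≤ centralizer ((P : Subgroup G) : Set G)) :
    ((g • Q : Sylow q G) : Subgroup G) ≤ centralizer (((g • P : Sylow p G) : Subgroup G) : Set G) := by
  intro y hy
  obtain ⟨y', hy', rfl⟩ := hy
  rw [mem_centralizer_iff]
  rintro _ ⟨x', hx', rfl⟩
  have e := mem_centralizer_iff.mp (h hy') x' hx'
  show MulAut.conj g x' * MulAut.conj g y' = MulAut.conj g y' * MulAut.conj g x'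
  rw [← map_mul, e, map_mul]

/-- The number of commuting pairs, counted from the first coordinate. -/
theorem card_commuting {p q : ℕ} [hp : Fact p.Prime] [hq : Fact q.Prime] (hG : Nat.card G = 175560)
    (hp1 : p ∣ Nat.card G) (hp2 : ¬ p ^ 2 ∣ Nat.card G)
    (hq1 : q ∣ Nat.card G) (hq2 : ¬ q ^ 2 ∣ Nat.card G) (hpq : p ≠ q) (h : q ∣ (sel G p).2) :
    ∃ a ∈ pairNums (sel G p).2 p q,
      Nat.card {x : Sylow p G × Sylow q G //
        (x.2 : Subgroup G) ≤ centralizer ((x.1 : Subgroup G) : Set G)} = (sel G p).1 * a := by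
  obtain ⟨P⟩ : Nonempty (Sylow p G) := inferInstance
  set C := centralizer ((P : Subgroup G) : Set G) with hC
  rw [sel_snd P] at h
  obtain ⟨y, hy⟩ := exists_prime_orderOf_dvd_card' _ h
  have hf : (Nat.card G).factorization q = 1 := by
    have := (hq.out.pow_dvd_iff_le_factorization Nat.card_pos.ne').not.mp hq2
    have := (hq.out.dvd_iff_one_le_factorization Nat.card_pos.ne').mp hq1
    omega
  let Q : Sylow q G := Sylow.ofCard (zpowers (y : G))
    (by rw [Nat.card_zpowers, Subgroup.orderOf_coe, hy, hf, pow_one])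
  have hQ : (Q : Subgroup G) ≤ C := zpowers_le.mpr y.2
  set a := Nat.card (Sylow q C) with ha
  refine ⟨a, ?_, ?_⟩
  · have hmul := SylowLocal.card_eq_mul_inf Q hQ
    set N := normalizer ((Q : Subgroup G) : Set G) ⊓ C with hN
    have hQN : q ∣ Nat.card N := (dvd_of_eq (card_sylow_prime hq1 hq2 Q).symm).trans
      (card_dvd_of_le (le_inf le_normalizer hQ))
    have hPN : p ∣ Nat.card N := (dvd_of_eq (card_sylow_prime hp1 hp2 P).symm).trans
      (card_dvd_of_le (le_inf (fun x hx => centralizer_le_normalizer _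
        ((le_centralizer_iff.mp hQ) hx)) (sylow_le_centralizer (card_sylow_prime hp1 hp2 P))))
    obtain ⟨r, hr⟩ := ((Nat.coprime_primes hp.out hq.out).mpr hpq).mul_dvd_of_dvd_of_dvd hPN hQN
    rw [pairNums, List.mem_filter, sel_snd P]
    refine ⟨mem_divs_of_dvd hG (((Dvd.intro _ hmul.symm)).trans (card_subgroup_dvd_card C)), ?_⟩
    simp only [Bool.and_eq_true, beq_iff_eq]
    refine ⟨Nat.mod_eq_zero_of_dvd ⟨r, ?_⟩, mod_eq_one_card_sylow⟩
    rw [hmul, hr, show a * (p * q * r) = p * q * (a * r) by ring,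
      Nat.mul_div_cancel_left _ (Nat.mul_pos hp.out.pos hq.out.pos)]
  · rw [ha, SylowLocal.card_sylow_eq_card_le Q hQ]
    let e : {x : Sylow p G × Sylow q G //
        (x.2 : Subgroup G) ≤ centralizer ((x.1 : Subgroup G) : Set G)} ≃
        (Σ R : Sylow p G, {T : Sylow q G //
          (T : Subgroup G) ≤ centralizer ((R : Subgroup G) : Set G)}) :=
      { toFun := fun x => ⟨x.1.1, x.1.2, x.2⟩
        invFun := fun x => ⟨(x.1, x.2.1), x.2.2⟩
        left_inv := fun _ => rfl
        right_inv := fun _ => rfl }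
    have hconst : ∀ R : Sylow p G, Nat.card {T : Sylow q G //
        (T : Subgroup G) ≤ centralizer ((R : Subgroup G) : Set G)} =
        Nat.card {T : Sylow q G // (T : Subgroup G) ≤ C} := by
      intro R
      obtain ⟨g, hg⟩ := MulAction.exists_smul_eq G P R
      refine (Nat.card_congr (Equiv.subtypeEquiv (MulAction.toPerm g) fun T => ⟨fun hT => ?_,
        fun hT => ?_⟩)).symm
      · rw [MulAction.toPerm_apply, ← hg]
        exact sylow_smul_le g hT
      · rw [MulAction.toPerm_apply, ← hg] at hT
        have := sylow_smul_le g⁻¹ hT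
        rwa [inv_smul_smul, inv_smul_smul] at this
    have := Fintype.ofFinite (Sylow p G)
    rw [Nat.card_congr e, Nat.card_sigma, Finset.sum_congr rfl (fun R _ => hconst R),
      Finset.sum_const, Finset.card_univ, smul_eq_mul, ← Nat.card_eq_fintype_card]
    rfl

theorem pairOk_sel {p q : ℕ} [hp : Fact p.Prime] [hq : Fact q.Prime] (hG : Nat.card G = 175560)
    (hp1 : p ∣ Nat.card G) (hp2 : ¬ p ^ 2 ∣ Nat.card G)
    (hq1 : q ∣ Nat.card G) (hq2 : ¬ q ^ 2 ∣ Nat.card G) (hpq : p ≠ q) :
    pairOk p (sel G p) q (sel G q) = true := by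
  rw [pairOk, Bool.or_eq_true, bne_iff_ne, List.any_eq_true]
  by_cases h : q ∣ (sel G p).2
  swap
  · exact Or.inl fun e => h (Nat.dvd_of_mod_eq_zero e)
  obtain ⟨a, ha, hac⟩ := card_commuting hG hp1 hp2 hq1 hq2 hpq h
  obtain ⟨b, hb, hbc⟩ := card_commuting hG hq1 hq2 hp1 hp2 (Ne.symm hpq)
    (dvd_sel_symm hp1 hp2 hq1 hq2 h)
  refine Or.inr ⟨a, ha, List.any_eq_true.mpr ⟨b, hb, beq_iff_eq.mpr ?_⟩⟩
  rw [← hac, ← hbc]
  exact Nat.card_congr (Equiv.subtypeEquiv (Equiv.prodComm _ _) fun x => le_centralizer_iff)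

/-- The odd primes dividing the order. -/
theorem oddPrime (hG : Nat.card G = 175560) {p : ℕ} (hp : p ∈ [5, 3, 7, 11, 19]) :
    p.Prime ∧ p ∣ Nat.card G ∧ ¬ p ^ 2 ∣ Nat.card G := by
  rw [hG]; fin_cases hp <;> norm_num

theorem srch_sound [IsSimpleGroup G] (hG : Nat.card G = 175560) : ∀ (ps pre : List ℕ),
    (∀ p ∈ pre ++ ps, p ∈ [5, 3, 7, 11, 19]) → (pre ++ ps).Nodup →
    srch ps (pre.map fun p => (p, sel G p)) = true →
    ∀ p ∈ pre ++ ps, expected p (sel G p) = true
  | [], pre, hp, hnd, h => by
    rw [List.append_nil] at hp hnd ⊢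
    rw [srch, Bool.or_eq_true] at h
    rcases h with h | h
    · exfalso
      have h' := total_le (G := G) pre [] (fun q hq => oddPrime hG (hp q hq)) (by simp)
        (by simpa using hnd)
      have hlt : Nat.card (avoid (G := G) []) < Nat.card G := by
        rw [Nat.card_coe_set_eq, ← Set.ncard_univ]
        exact Set.ncard_lt_ncard (Set.ssubset_univ_iff.mpr fun e =>
          ((Set.eq_univ_iff_forall.mp e 1).1 rfl)) (Set.toFinite _)
      have := of_decide_eq_true h
      omega
    · intro p hpm
      exact List.all_eq_true.mp h _ (List.mem_map_of_mem hpm)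
  | p :: ps, pre, hp, hnd, h => by
    obtain ⟨hpr, h1, h2⟩ := oddPrime hG (hp p (by simp))
    have := Fact.mk hpr
    rw [srch, List.all_eq_true] at h
    have hcase := h _ (sel_mem_optsU hG h1 h2)
    simp only [Bool.or_eq_true, Bool.not_eq_true'] at hcase
    have hperm : (p :: pre ++ ps).Perm (pre ++ p :: ps) := List.perm_middle.symm
    rcases hcase with (hc | hc) | hc
    · exfalso
      rw [compat, List.all_eq_false] at hc
      obtain ⟨x, hx, hne⟩ := hc
      obtain ⟨q, hq, rfl⟩ := List.mem_map.mp hx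
      obtain ⟨hqr, hq1, hq2⟩ := oddPrime hG (hp q (List.mem_append_left _ hq))
      have := Fact.mk hqr
      refine hne ?_
      rw [beq_iff_eq, Bool.eq_iff_iff, beq_iff_eq, beq_iff_eq, ← Nat.dvd_iff_mod_eq_zero,
        ← Nat.dvd_iff_mod_eq_zero]
      exact ⟨dvd_sel_symm h1 h2 hq1 hq2, dvd_sel_symm hq1 hq2 h1 h2⟩
    · exfalso
      rw [List.all_eq_false] at hc
      obtain ⟨x, hx, hne⟩ := hc
      obtain ⟨q, hq, rfl⟩ := List.mem_map.mp hx
      obtain ⟨hqr, hq1, hq2⟩ := oddPrime hG (hp q (List.mem_append_left _ hq))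
      have := Fact.mk hqr
      have hpq : p ≠ q := fun e => by
        subst e
        exact (List.nodup_append.mp hnd).2.2 p hq p (List.mem_cons_self ..) rfl
      refine hne ?_
      rw [Bool.and_eq_true]
      exact ⟨pairOk_sel hG h1 h2 hq1 hq2 hpq, pairOk_sel hG hq1 hq2 h1 h2 (Ne.symm hpq)⟩
    · intro q hq
      exact srch_sound hG ps (p :: pre) (fun q hq => hp q (hperm.subset hq))
        (hperm.nodup_iff.mpr hnd) hc q (hperm.symm.subset hq)

/-- The data of the odd primes. -/
theorem expected_sel [IsSimpleGroup G] (hG : Nat.card G = 175560) {p : ℕ}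
    (hp : p ∈ [5, 3, 7, 11, 19]) : expected p (sel G p) = true :=
  srch_sound hG [5, 3, 7, 11, 19] [] (fun _ h => h) (by decide) srch_true p hp

variable [IsSimpleGroup G] (hG : Nat.card G = 175560)
include hG

theorem sel_three : sel G 3 = (2926, 30) := by
  simpa [expected] using expected_sel hG (p := 3) (by simp)

theorem sel_five : sel G 5 = (2926, 15) ∨ sel G 5 = (2926, 30) := by
  simpa [expected] using expected_sel hG (p := 5) (by simp)

theorem sel_seven : sel G 7 = (4180, 7) ∨ sel G 7 = (4180, 14) := by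
  simpa [expected] using expected_sel hG (p := 7) (by simp)

theorem sel_eleven : sel G 11 = (1596, 11) ∨ sel G 11 = (1596, 22) := by
  simpa [expected] using expected_sel hG (p := 11) (by simp)

theorem sel_nineteen : sel G 19 = (1540, 19) ∨ sel G 19 = (1540, 38) := by
  simpa [expected] using expected_sel hG (p := 19) (by simp)

end CfsgLib.J1Unique
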