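import Mathlib

/-!
# The model of the centraliser in the Janko group

Elements of the alternating group of degree five used in the identification of a simple group of
order `175560`, and the facts about them.
-/

set_option autoImplicit false
set_option synthInstance.maxSize 512
set_option synthInstance.maxHeartbeats 200000

namespace CfsgLib.J1Unique.Model

/-- The alternating group of degree five. -/
abbrev A5 := alternatingGroup (Fin 5)

/-- `(0 1 2)`. -/
def gx : A5 := ⟨Equiv.swap 0 1 * Equiv.swap 1 2, Equiv.Perm.mem_alternatingGroup.mpr (by decide)⟩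
/-- `(0 1)(2 3)`. -/
def gv : A5 := ⟨Equiv.swap 0 1 * Equiv.swap 2 3, Equiv.Perm.mem_alternatingGroup.mpr (by decide)⟩
/-- `(1 2)(3 4)`. -/
def gf : A5 := ⟨Equiv.swap 1 2 * Equiv.swap 3 4, Equiv.Perm.mem_alternatingGroup.mpr (by decide)⟩
/-- The first conjugate of `gv`. -/
def gv1 : A5 := gx * gv * gx⁻¹
/-- The second conjugate of `gv`. -/
def gv2 : A5 := gx * gv1 * gx⁻¹

/-- Membership in the four group. -/
def IsV (a : A5) : Prop := a = 1 ∨ a = gv ∨ a = gv1 ∨ a = gv2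

instance : DecidablePred IsV := fun _ => inferInstanceAs (Decidable (_ ∨ _ ∨ _ ∨ _))

theorem isV_mul : ∀ a, IsV a → ∀ b, IsV b → IsV (a * b) := by decide +kernel
theorem isV_inv : ∀ a, IsV a → IsV a⁻¹ := by decide +kernel
theorem isV_sq : ∀ a, IsV a → a * a = 1 := by decide +kernel

/-- The four group. -/
def V4 : Subgroup A5 where
  carrier := {a | IsV a}
  one_mem' := Or.inl rfl
  mul_mem' := fun ha hb => isV_mul _ ha _ hb
  inv_mem' := fun ha => isV_inv _ ha

theorem mem_V4 {a : A5} : a ∈ V4 ↔ IsV a := Iff.rfl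

theorem card_isV : Fintype.card {a : A5 // IsV a} = 4 := by decide +kernel

theorem card_V4 : Nat.card V4 = 4 := by
  rw [← card_isV, ← Nat.card_eq_fintype_card]
  rfl

theorem isV_conj_x : ∀ a, IsV a → IsV (gx * a * gx⁻¹) := by decide +kernel
theorem not_isV_conj_f : ¬ IsV (gf * gv * gf⁻¹) := by decide +kernel
theorem gx_order : gx ^ 3 = 1 ∧ gx ≠ 1 := by decide +kernel
theorem gv_ne : gv ≠ 1 ∧ gv1 ≠ 1 ∧ gv2 ≠ 1 ∧ gv ≠ gv1 := by decide +kernel
theorem gv_mul : gv * gv1 = gv2 ∧ gv1 * gv2 = gv ∧ gv * gv2 = gv1 ∧ gv2 * gv1 = gv := by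
  decide +kernel

theorem orbit_x : ∀ a, IsV a → a ≠ 1 → ∀ b, IsV b → b ≠ 1 →
    b = a ∨ b = gx * a * gx⁻¹ ∨ b = gx⁻¹ * a * gx := by decide +kernel

theorem gfv_order : (gf * gv) ^ 5 = 1 ∧ gf * gv ≠ 1 := by decide +kernel

theorem generators : Subgroup.closure ({gx, gv, gf} : Set A5) = ⊤ := by
  set H := Subgroup.closure ({gx, gv, gf} : Set A5) with hH
  have hx : gx ∈ H := Subgroup.subset_closure (by simp)
  have hv : gv ∈ H := Subgroup.subset_closure (by simp)
  have hf : gf ∈ H := Subgroup.subset_closure (by simp)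
  have h3 : 3 ∣ Nat.card H := by
    have : Fact (Nat.Prime 3) := ⟨by norm_num⟩
    exact (dvd_of_eq (orderOf_eq_prime gx_order.1 gx_order.2).symm).trans
      (Subgroup.orderOf_dvd_natCard H hx)
  have h5 : 5 ∣ Nat.card H := by
    have : Fact (Nat.Prime 5) := ⟨by norm_num⟩
    exact (dvd_of_eq (orderOf_eq_prime gfv_order.1 gfv_order.2).symm).trans
      (Subgroup.orderOf_dvd_natCard H (mul_mem hf hv))
  have h4 : 4 ∣ Nat.card H := by
    refine (dvd_of_eq card_V4.symm).trans (Subgroup.card_dvd_of_le ?_)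
    have h1 : gv1 ∈ H := mul_mem (mul_mem hx hv) (inv_mem hx)
    have h2 : gv2 ∈ H := mul_mem (mul_mem hx h1) (inv_mem hx)
    intro a ha
    rcases mem_V4.mp ha with rfl | rfl | rfl | rfl
    · exact one_mem _
    · exact hv
    · exact h1
    · exact h2
  have hc : Nat.card A5 = 60 := by
    rw [nat_card_alternatingGroup]; norm_num [Nat.factorial]
  have h60 : 60 ∣ Nat.card H := by omega
  exact Subgroup.eq_top_of_le_card H (hc ▸ Nat.le_of_dvd Nat.card_pos h60)

/-- The outer automorphism inverting `gx` and preserving the four group. -/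
def tau : A5 ≃* A5 := MulAut.conjNormal (Equiv.swap (1 : Fin 5) 2)

theorem tau_x : tau gx = gx⁻¹ := by decide +kernel
theorem tau_V : ∀ a, IsV a → IsV (tau a) ∧ IsV (tau.symm a) := by decide +kernel

/-- The second word for `σ`-degree one. -/
def y1 : A5 := gx * gv * gx⁻¹ * gf
/-- The first word for `σ`-degree one. -/
def y1' : A5 := gf * gv * gx * gf
/-- The first word for `σ`-degree three. -/
def y3 : A5 := gx⁻¹ * gv * gf
/-- The second word for `σ`-degree three. -/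
def y3' : A5 := gv * gx⁻¹ * gv * gf * gv
/-- The first element of order five inverted by `gv`. -/
def a0 : A5 := gx⁻¹ * gf * gv
/-- The second element of order five inverted by `gv`. -/
def a1 : A5 := gf * gv

theorem y1_cases : ∀ y : A5, y ^ 3 = 1 → y ≠ 1 → gv1 * y * gv1⁻¹ = y⁻¹ →
    (y = y1 ∨ y = y1⁻¹) ∨ (gv * y * gv⁻¹ = y1 ∨ gv * y * gv⁻¹ = y1⁻¹) := by decide +kernel

theorem y3_cases : ∀ y : A5, y ^ 3 = 1 → y ≠ 1 → gv2 * y * gv2⁻¹ = y⁻¹ →
    (y = y3 ∨ y = y3⁻¹) ∨ (gv1 * y * gv1⁻¹ = y3 ∨ gv1 * y * gv1⁻¹ = y3⁻¹) := by decide +kernel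

theorem a_cases : ∀ a : A5, a ^ 5 = 1 → a ≠ 1 → gv * a * gv⁻¹ = a⁻¹ →
    (a0 = a ∨ a0 = a ^ 2 ∨ a0 = a ^ 3 ∨ a0 = a ^ 4) ∨
      (a1 = a ∨ a1 = a ^ 2 ∨ a1 = a ^ 3 ∨ a1 = a ^ 4) := by decide +kernel

theorem conj_inverts : ∀ a : A5, gv * a * gv⁻¹ = a⁻¹ →
    gv * (gv1 * a * gv1⁻¹) * gv⁻¹ = (gv1 * a * gv1⁻¹)⁻¹ := by decide +kernel

theorem invol_conj : ∀ b : A5, b * b = 1 → b ≠ 1 → ∃ g, g * b * g⁻¹ = gv := by decide +kernel

end CfsgLib.J1Unique.Model
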