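import Cfsg.Agent.Lib.J1Unique.Struct
import Cfsg.Agent.Lib.J1Unique.Model
import Mathlib

/-!
# The frame of a simple group of order 175560

An involution `t`, an embedding of `A₅` into its centraliser and an element `σ` of order seven
normalising a Sylow `2`-subgroup, with all the relations between them, and one further relation.
-/

set_option autoImplicit false
set_option linter.unusedSectionVars false
set_option synthInstance.maxSize 512
set_option synthInstance.maxHeartbeats 200000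

namespace CfsgLib.J1Unique

open Subgroup CfsgLib.SmallGroups CfsgLib.SmallGroups.Order175560 Model

/-- An involution with an embedded `A₅` and an element of order seven. -/
structure Frame (G : Type*) [Group G] [Finite G] where
  /-- The involution. -/
  t : G
  /-- The element of order seven. -/
  s : G
  /-- The embedded alternating group. -/
  ι : Model.A5 →* G
  t_order : orderOf t = 2
  t_card : Nat.card (centralizer ({t} : Set G)) = 120
  inj : Function.Injective ι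
  comm : ∀ a, ι a * t = t * ι a
  ne : ∀ a, ι a ≠ t
  cover : ∀ x ∈ centralizer ({t} : Set G), ∃ a, x = ι a ∨ x = t * ι a
  s_order : orderOf s = 7
  sx : ι gx * s * (ι gx)⁻¹ = s ^ 2
  st : s * t * s⁻¹ = ι gv
  sv : s * ι gv * s⁻¹ = ι gv1
  sv1 : s * ι gv1 * s⁻¹ = t * ι gv

namespace Frame

variable {G : Type*} [Group G] [Finite G] (F : Frame G)

theorem t_mul_t : F.t * F.t = 1 := by
  rw [← pow_two, ← F.t_order, pow_orderOf_eq_one]

theorem t_ne : F.t ≠ 1 := fun e => by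
  have := F.t_order
  rw [e, orderOf_one] at this
  omega

/-- An element of order three in the centraliser lies in the embedded group. -/
theorem exists_of_pow {x : G} (hx : x * F.t = F.t * x) {n : ℕ} (hn : Odd n) (h : x ^ n = 1) :
    ∃ a, x = F.ι a ∧ a ^ n = 1 := by
  obtain ⟨a, rfl | rfl⟩ := F.cover x (mem_centralizer_singleton_iff.mpr hx)
  · exact ⟨a, rfl, F.inj (by rw [map_pow, h, map_one])⟩
  · exfalso
    have hc : Commute F.t (F.ι a) := (F.comm a).symm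
    obtain ⟨k, rfl⟩ := hn
    rw [hc.mul_pow, pow_succ, pow_mul, pow_two, F.t_mul_t, one_pow, one_mul] at h
    have e := eq_inv_of_mul_eq_one_left h
    rw [← map_pow, ← map_inv] at e
    exact F.ne _ e.symm

/-- The further relation for a power `k` of `σ` and elements `y`, `a`. -/
def Rel (k : ℕ) (y a : Model.A5) : Prop :=
  Commute (F.s ^ k * F.ι y * (F.s ^ k)⁻¹) (F.ι a)

theorem Rel.inv_left {k : ℕ} {y a : Model.A5} (h : F.Rel k y a) : F.Rel k y⁻¹ a := by
  have := Commute.inv_left h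
  rw [Rel]
  have e : (F.s ^ k * F.ι y * (F.s ^ k)⁻¹)⁻¹ = F.s ^ k * F.ι y⁻¹ * (F.s ^ k)⁻¹ := by
    rw [map_inv]; group
  rwa [e] at this

theorem Rel.pow_right {k : ℕ} {y a : Model.A5} (h : F.Rel k y a) (m : ℕ) : F.Rel k y (a ^ m) := by
  rw [Rel, map_pow]
  exact Commute.pow_right h m

/-- Conjugation of the relation by an element of the Sylow `2`-subgroup. -/
theorem Rel.conj {k : ℕ} {y a : Model.A5} (h : F.Rel k y a) {w : Model.A5} {z : G}
    (hw : F.s ^ k * z * (F.s ^ k)⁻¹ = F.ι gv1) (hz : z = F.ι w ∨ z = F.t * F.ι w) :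
    F.Rel k (w * y * w⁻¹) (gv1 * a * gv1⁻¹) := by
  have key : z * F.ι y * z⁻¹ = F.ι (w * y * w⁻¹) := by
    rcases hz with rfl | rfl
    · rw [map_mul, map_mul, map_inv]
    · rw [map_mul, map_mul, map_inv]
      calc F.t * F.ι w * F.ι y * (F.t * F.ι w)⁻¹
          = F.t * (F.ι w * F.ι y * (F.ι w)⁻¹) * F.t⁻¹ := by group
        _ = F.ι w * F.ι y * (F.ι w)⁻¹ * F.t * F.t⁻¹ := by
            rw [← map_inv, ← map_mul, ← map_mul, F.comm]
        _ = F.ι w * F.ι y * (F.ι w)⁻¹ := by group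
  have h' := Commute.map h (MulAut.conj (F.ι gv1)).toMonoidHom
  rw [MulEquiv.coe_toMonoidHom, MulAut.conj_apply, MulAut.conj_apply] at h'
  rw [Rel, map_mul F.ι (gv1 * a), map_mul F.ι gv1, map_inv, ← key]
  refine Eq.subst (motive := fun u => Commute u _) ?_ h'
  rw [← hw]
  group

theorem s_pow_seven : F.s ^ 7 = 1 := F.s_order ▸ pow_orderOf_eq_one _

theorem sv2 : F.s * F.ι gv2 * F.s⁻¹ = F.t * (F.ι gv * F.ι gv1) := by
  rw [← gv_mul.1, map_mul, ← mul_assoc F.t, ← F.comm gv, mul_assoc (F.ι gv) F.t,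
    ← F.comm gv1]
  calc F.s * (F.ι gv * F.ι gv1) * F.s⁻¹
      = (F.s * F.ι gv * F.s⁻¹) * (F.s * F.ι gv1 * F.s⁻¹) := by group
    _ = F.ι gv1 * (F.t * F.ι gv) := by rw [F.sv, F.sv1]
    _ = F.ι gv1 * F.ι gv * F.t := by rw [← F.comm gv, mul_assoc]
    _ = F.ι gv * (F.ι gv1 * F.t) := by
        rw [← mul_assoc (F.ι gv), ← map_mul, ← map_mul,
          show gv1 * gv = gv * gv1 by decide +kernel]

/-- `σ⁻¹ t σ`. -/
theorem back_one : F.s⁻¹ * F.t * F.s = F.t * F.ι gv1 := by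
  have h : F.s * (F.t * F.ι gv1) * F.s⁻¹ = F.t := by
    calc F.s * (F.t * F.ι gv1) * F.s⁻¹
        = (F.s * F.t * F.s⁻¹) * (F.s * F.ι gv1 * F.s⁻¹) := by group
      _ = F.ι gv * (F.t * F.ι gv) := by rw [F.st, F.sv1]
      _ = F.t * (F.ι gv * F.ι gv) := by rw [← mul_assoc, F.comm gv, mul_assoc]
      _ = F.t := by rw [← map_mul, show gv * gv = 1 by decide +kernel, map_one, mul_one]
  conv_lhs => rw [← h]
  group

theorem two_t : F.s ^ 2 * F.t * (F.s ^ 2)⁻¹ = F.ι gv1 := by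
  rw [← F.sv, ← F.st, pow_two]; group

theorem three_t : F.s ^ 3 * F.t * (F.s ^ 3)⁻¹ = F.t * F.ι gv := by
  rw [← F.sv1, ← F.two_t]; group

theorem four_t : F.s ^ 4 * F.t * (F.s ^ 4)⁻¹ = F.ι gv2 := by
  calc F.s ^ 4 * F.t * (F.s ^ 4)⁻¹ = F.s * (F.s ^ 3 * F.t * (F.s ^ 3)⁻¹) * F.s⁻¹ := by group
    _ = F.s * (F.t * F.ι gv) * F.s⁻¹ := by rw [F.three_t]
    _ = (F.s * F.t * F.s⁻¹) * (F.s * F.ι gv * F.s⁻¹) := by group
    _ = F.ι gv2 := by rw [F.st, F.sv, ← map_mul, gv_mul.1]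

/-- `σ⁻³ t σ³`. -/
theorem back_three : (F.s ^ 3)⁻¹ * F.t * F.s ^ 3 = F.ι gv2 := by
  rw [← F.four_t]
  have e : (F.s ^ 3)⁻¹ = F.s ^ 4 := by
    rw [inv_eq_iff_mul_eq_one, ← pow_add]; exact F.s_pow_seven
  rw [← e, inv_inv]

end Frame

/-! ### Existence -/

variable {G : Type*} [Group G] [Finite G] [IsSimpleGroup G] (hG : Nat.card G = 175560)
include hG

/-- The element of order seven, for the embedding or its twist. -/
theorem exists_seven {t : G} (ht : orderOf t = 2)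
    (hT : Nat.card (centralizer ({t} : Set G)) = 120) (ι : Model.A5 →* G)
    (hinj : Function.Injective ι) (hcomm : ∀ a, ι a * t = t * ι a) (hne : ∀ a, ι a ≠ t)
    (hcov : ∀ x ∈ centralizer ({t} : Set G), ∃ a, x = ι a ∨ x = t * ι a) :
    ∃ σ : G, orderOf σ = 7 ∧
      (ι gx * σ * (ι gx)⁻¹ = σ ^ 2 ∨ (ι gx)⁻¹ * σ * ι gx = σ ^ 2) ∧
      (∀ j : ℕ, ∃ a, IsV a ∧ (σ ^ j * t * (σ ^ j)⁻¹ = ι a ∨ σ ^ j * t * (σ ^ j)⁻¹ = t * ι a)) ∧
      (∀ a, IsV a → a ≠ 1 → ∃ j : ℕ, σ ^ j * t * (σ ^ j)⁻¹ = ι a) := by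
  have f2 := Fact.mk Nat.prime_two
  have f3 := Fact.mk Nat.prime_three
  have f7 : Fact (Nat.Prime 7) := ⟨by norm_num⟩
  have htt : t * t = 1 := by rw [← pow_two, ← ht, pow_orderOf_eq_one]
  have hι1 : ∀ a, ι a = 1 → a = 1 := fun a h => hinj (h.trans (map_one ι).symm)
  -- the Sylow `2`-subgroup
  let φ : zpowers t × Model.A5 →* G :=
    MonoidHom.noncommCoprod (zpowers t).subtype ι (fun z a => by
      obtain ⟨k, hk⟩ := mem_zpowers_iff.mp z.2
      show Commute (z : G) (ι a)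
      rw [← hk]
      exact Commute.zpow_left (hcomm a).symm k)
  have hz : ∀ z : zpowers t, (z : G) = 1 ∨ (z : G) = t := by
    intro z
    obtain ⟨k, hk⟩ := mem_zpowers_iff.mp z.2
    rw [← hk]
    rcases Int.even_or_odd k with ⟨m, rfl⟩ | ⟨m, rfl⟩
    · left; rw [← two_mul, zpow_mul, zpow_two, htt, one_zpow]
    · right; rw [zpow_add, zpow_one, zpow_mul, zpow_two, htt, one_zpow, one_mul]
  have hφ : Function.Injective φ := (injective_iff_map_eq_one φ).mpr fun p hp => by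
    have hp' : (p.1 : G) * ι p.2 = 1 := hp
    rcases hz p.1 with e | e
    · rw [e, one_mul] at hp'
      exact Prod.ext (Subtype.ext e) (hι1 _ hp')
    · rw [e] at hp'
      exact absurd ((eq_inv_of_mul_eq_one_right hp').trans (inv_eq_of_mul_eq_one_right htt)) (hne p.2)
  set S0 : Subgroup G := ((⊤ : Subgroup (zpowers t)).prod V4).map φ with hS0
  have hS0card : Nat.card S0 = 8 := by
    rw [hS0, card_map_of_injective hφ, Nat.card_congr (Subgroup.prodEquiv _ _).toEquiv,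
      Nat.card_prod, card_top, Nat.card_zpowers, ht, card_V4]
  have hmemS : ∀ x, x ∈ S0 ↔ ∃ a, IsV a ∧ (x = ι a ∨ x = t * ι a) := by
    intro x
    constructor
    · rintro ⟨p, hp, rfl⟩
      refine ⟨p.2, hp.2, ?_⟩
      show (p.1 : G) * ι p.2 = ι p.2 ∨ (p.1 : G) * ι p.2 = t * ι p.2
      rcases hz p.1 with e | e <;> simp [e]
    · rintro ⟨a, ha, rfl | rfl⟩
      · exact ⟨(1, a), ⟨mem_top _, ha⟩, one_mul _⟩
      · exact ⟨(⟨t, mem_zpowers t⟩, a), ⟨mem_top _, ha⟩, rfl⟩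
  let S : Sylow 2 G := Sylow.ofCard S0 (by
    rw [hS0card, hG, show (175560 : ℕ) = 2 ^ 3 * 21945 by norm_num,
      Nat.factorization_mul (by norm_num) (by norm_num), Finsupp.add_apply,
      Nat.prime_two.factorization_pow, Finsupp.single_eq_same,
      Nat.factorization_eq_zero_of_not_dvd (show ¬ 2 ∣ 21945 by norm_num)]
    norm_num)
  have hScomm : IsMulCommutative (S : Subgroup G) := ⟨⟨fun u v => Subtype.ext (by
    show (u : G) * v = v * u
    obtain ⟨a, ha, hu⟩ := (hmemS u).mp u.2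
    obtain ⟨b, hb, hv⟩ := (hmemS v).mp v.2
    have hab : a * b = b * a := by
      have h := isV_sq _ (isV_mul a ha b hb)
      calc a * b = a * (a * b * (a * b)) * b := by rw [h, mul_one]
        _ = a * a * (b * a) * (b * b) := by group
        _ = b * a := by rw [isV_sq a ha, isV_sq b hb, one_mul, mul_one]
    have h0 : Commute (ι a) (ι b) := by
      show ι a * ι b = ι b * ι a
      rw [← map_mul, hab, map_mul]
    have hta : Commute t (ι a) := (hcomm a).symm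
    have htb : Commute t (ι b) := (hcomm b).symm
    rcases hu with e | e <;> rcases hv with e' | e' <;> rw [e, e']
    · exact h0.eq
    · exact ((hta.symm).mul_right h0).eq
    · exact (htb.mul_left h0).eq
    · exact (((Commute.refl t).mul_right htb).mul_left (hta.symm.mul_right h0)).eq)⟩⟩
  set T := centralizer ({t} : Set G) with hTdef
  set N := normalizer ((S : Subgroup G) : Set G) with hN
  have htS : t ∈ S0 := (hmemS t).mpr ⟨1, Or.inl rfl, Or.inr (by rw [map_one, mul_one])⟩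
  have hST : S0 ≤ T := fun u hu => by
    rw [mem_centralizer_singleton_iff]
    obtain ⟨a, -, rfl | rfl⟩ := (hmemS u).mp hu
    · exact hcomm a
    · rw [mul_assoc, hcomm a]
  have hxN : ι gx ∈ N := mem_normalizer_fintype fun u hu => by
    obtain ⟨a, ha, rfl | rfl⟩ := (hmemS u).mp hu
    · exact (hmemS _).mpr ⟨_, isV_conj_x a ha, Or.inl (by rw [map_mul, map_mul, map_inv])⟩
    · refine (hmemS _).mpr ⟨_, isV_conj_x a ha, Or.inr ?_⟩
      rw [map_mul, map_mul, map_inv, ← mul_assoc (ι gx), hcomm gx]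
      group
  have hk : Nat.card (T ⊓ N : Subgroup G) = 24 := by
    have h8 : 8 ∣ Nat.card (T ⊓ N : Subgroup G) :=
      (dvd_of_eq hS0card.symm).trans (card_dvd_of_le (le_inf hST le_normalizer))
    have h3 : 3 ∣ Nat.card (T ⊓ N : Subgroup G) := by
      have ho : orderOf (ι gx) = 3 := by
        rw [orderOf_injective ι hinj]
        exact orderOf_eq_prime gx_order.1 gx_order.2
      rw [← ho]
      exact Subgroup.orderOf_dvd_natCard _ ⟨mem_centralizer_singleton_iff.mpr (hcomm gx), hxN⟩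
    have hd : Nat.card (T ⊓ N : Subgroup G) ∣ 120 :=
      (card_dvd_of_le inf_le_left).trans (dvd_of_eq hT)
    have hne' : Nat.card (T ⊓ N : Subgroup G) ≠ 120 := fun e => by
      have hTN : T ≤ N := inf_eq_left.mp (eq_of_le_of_card_ge inf_le_left (by rw [e, hT]))
      have h := (mem_normalizer_iff.mp (hTN (mem_centralizer_singleton_iff.mpr (hcomm gf))) (ι gv)).mp
        ((hmemS _).mpr ⟨gv, Or.inr (Or.inl rfl), Or.inl rfl⟩)
      obtain ⟨a, ha, e' | e'⟩ := (hmemS _).mp h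
      · exact not_isV_conj_f (by
          rwa [show gf * gv * gf⁻¹ = a from hinj (by rw [map_mul, map_mul, map_inv]; exact e')])
      · refine hne (gf * gv * gf⁻¹ * a⁻¹) ?_
        rw [map_mul, map_mul, map_mul, map_inv, map_inv, e']
        group
    obtain ⟨c, hc⟩ := (show Nat.Coprime 8 3 by norm_num).mul_dvd_of_dvd_of_dvd h8 h3
    rw [hc] at hd hne'
    rcases (Nat.dvd_prime (by norm_num : Nat.Prime 5)).mp
      (Nat.dvd_of_mul_dvd_mul_left (by norm_num : 0 < 24) (by simpa using hd)) with e | e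
    · rw [hc, e]
    · rw [e] at hne'
      norm_num at hne'
  -- the orbit of `t`
  set O := {x : G | ∃ g ∈ N, g * t * g⁻¹ = x} with hO
  have hON : O.ncard * 24 = Nat.card N := hk ▸ card_conj_set N t
  have hOS : ∀ u ∈ O, u ∈ S0 ∧ u ≠ 1 := by
    rintro u ⟨g, hg, rfl⟩
    refine ⟨(mem_normalizer_iff.mp hg t).mp htS, fun e => ?_⟩
    have : t = 1 := by
      rw [mul_inv_eq_one] at e
      exact mul_left_cancel (e.trans (mul_one g).symm)
    rw [this, orderOf_one] at ht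
    omega
  have hOx : ∀ u ∈ O, ι gx * u * (ι gx)⁻¹ ∈ O ∧ (ι gx)⁻¹ * u * ι gx ∈ O := by
    rintro u ⟨g, hg, rfl⟩
    exact ⟨⟨ι gx * g, mul_mem hxN hg, by group⟩, ⟨(ι gx)⁻¹ * g, mul_mem (inv_mem hxN) hg, by group⟩⟩
  have hclass : ∀ e : Bool, ∀ a, IsV a → a ≠ 1 → (cond e t 1) * ι a ∈ O →
      ∀ b, IsV b → b ≠ 1 → (cond e t 1) * ι b ∈ O := by
    intro e a ha ha1 hO' b hb hb1
    have hc : Commute (ι gx) (cond e t 1) := by
      cases e
      · exact Commute.one_right _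
      · exact hcomm gx
    obtain ⟨h1, h2⟩ := hOx _ hO'
    rcases orbit_x a ha ha1 b hb hb1 with rfl | rfl | rfl
    · exact hO'
    · convert h1 using 1
      rw [map_mul, map_mul, map_inv, ← mul_assoc (ι gx), hc.eq]
      group
    · convert h2 using 1
      rw [map_mul, map_mul, map_inv, ← mul_assoc (ι gx)⁻¹, hc.inv_left.eq]
      group
  have hval : ∀ u ∈ O, u = t ∨ ∃ e : Bool, ∃ a, IsV a ∧ a ≠ 1 ∧ u = cond e t 1 * ι a := by
    intro u hu
    obtain ⟨hu', hu1⟩ := hOS u hu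
    obtain ⟨a, ha, e⟩ := (hmemS u).mp hu'
    by_cases ha1 : a = 1
    · subst ha1
      rw [map_one, mul_one] at e
      exact Or.inl (e.resolve_left hu1)
    · rcases e with e | e
      · exact Or.inr ⟨false, a, ha, ha1, by simpa using e⟩
      · exact Or.inr ⟨true, a, ha, ha1, e⟩
  have hboth : ∀ e : Bool, ∃ a, IsV a ∧ a ≠ 1 ∧ cond e t 1 * ι a ∈ O := by
    by_contra hno
    push Not at hno
    obtain ⟨e₀, he₀⟩ := hno
    -- some element other than `t` lies in the orbit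
    obtain ⟨u, hu, hut⟩ : ∃ u ∈ O, u ≠ t := by
      by_contra h
      push Not at h
      have hfix : ∀ n ∈ N, n * t = t * n := fun n hn => by
        have := h (n * t * n⁻¹) ⟨n, hn, rfl⟩
        exact mul_inv_eq_iff_eq_mul.mp this
      have := eq_one_of_central_in_normalizer_of_abelian_sylow
        (commutator_eq_top_of_simple (not_comm hG)) S htS hfix
      rw [this, orderOf_one] at ht
      omega
    obtain ⟨e₁, a₁, ha₁, ha₁', rfl⟩ := (hval u hu).resolve_left hut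
    have hsub : O = {t, cond e₁ t 1 * ι gv, cond e₁ t 1 * ι gv1, cond e₁ t 1 * ι gv2} := by
      ext w
      simp only [Set.mem_insert_iff, Set.mem_singleton_iff]
      constructor
      · intro hw
        rcases hval w hw with rfl | ⟨e₂, a, ha, ha', rfl⟩
        · exact Or.inl rfl
        · obtain rfl : e₂ = e₁ := by
            rcases Bool.eq_or_eq_not e₂ e₁ with h | h
            · exact h
            · exfalso
              rcases Bool.eq_or_eq_not e₀ e₁ with h' | h'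
              · exact he₀ a₁ ha₁ ha₁' (h' ▸ hu)
              · exact he₀ a ha ha' (by rw [h', ← h]; exact hw)
          rcases ha with rfl | rfl | rfl | rfl
          · exact absurd rfl ha'
          · exact Or.inr (Or.inl rfl)
          · exact Or.inr (Or.inr (Or.inl rfl))
          · exact Or.inr (Or.inr (Or.inr rfl))
      · rintro (rfl | rfl | rfl | rfl)
        · exact ⟨1, one_mem _, by simp⟩
        · exact hclass e₁ a₁ ha₁ ha₁' hu _ (Or.inr (Or.inl rfl)) gv_ne.1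
        · exact hclass e₁ a₁ ha₁ ha₁' hu _ (Or.inr (Or.inr (Or.inl rfl))) gv_ne.2.1
        · exact hclass e₁ a₁ ha₁ ha₁' hu _ (Or.inr (Or.inr (Or.inr rfl))) gv_ne.2.2.1
    have hinj' : ∀ a b, cond e₁ t 1 * ι a = cond e₁ t 1 * ι b → a = b :=
      fun a b h => hinj (mul_left_cancel h)
    have hnt : ∀ a, a ≠ 1 → t ≠ cond e₁ t 1 * ι a := fun a ha h => by
      cases e₁
      · simp only [cond_false, one_mul] at h
        exact hne a h.symm
      · simp only [cond_true] at h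
        exact ha (hι1 a (mul_left_cancel (h.symm.trans (mul_one t).symm)))
    have h4 : O.ncard = 4 := by
      rw [hsub, Set.ncard_insert_of_notMem, Set.ncard_eq_three.mpr]
      · exact ⟨_, _, _, fun h => gv_ne.2.2.2 (hinj' _ _ h),
          fun h => absurd (hinj' _ _ h) (by decide +kernel),
          fun h => absurd (hinj' _ _ h) (by decide +kernel), rfl⟩
      · simp only [Set.mem_insert_iff, Set.mem_singleton_iff, not_or]
        exact ⟨hnt _ gv_ne.1, hnt _ gv_ne.2.1, hnt _ gv_ne.2.2.1⟩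
    rw [h4] at hON
    have := card_subgroup_dvd_card N
    rw [← hON, hG] at this
    norm_num at this
  have hall : ∀ u ∈ S0, u ≠ 1 → u ∈ O := by
    intro u hu hu1
    obtain ⟨a, ha, e⟩ := (hmemS u).mp hu
    by_cases ha1 : a = 1
    · subst ha1
      rw [map_one, mul_one] at e
      exact ⟨1, one_mem _, by simpa using (e.resolve_left hu1).symm⟩
    · rcases e with rfl | rfl
      · obtain ⟨b, hb, hb1, hbO⟩ := hboth false
        simpa using hclass false b hb hb1 hbO a ha ha1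
      · obtain ⟨b, hb, hb1, hbO⟩ := hboth true
        exact hclass true b hb hb1 hbO a ha ha1
  have hO7 : O.ncard = 7 := by
    have : O = (S0 : Set G) \ {1} := by
      ext u
      exact ⟨fun h => ⟨(hOS u h).1, (hOS u h).2⟩, fun h => hall u h.1 h.2⟩
    rw [this, Set.ncard_diff_singleton_of_mem (one_mem S0), ← Nat.card_coe_set_eq]
    exact congrArg (· - 1) hS0card
  rw [hO7] at hON
  have hd7 := (oddPrime hG (p := 7) (by simp)).2
  have hd3 := (oddPrime hG (p := 3) (by simp)).2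
  obtain ⟨P, hP⟩ := exists_sylow_le hG hd7.1 hd7.2 (H := N) (by omega)
  have hPN : Nat.card (normalizer ((P : Subgroup G) : Set G) ⊓ N : Subgroup G) = 21 := by
    have h1 := SylowLocal.card_eq_mul_inf P hP
    rw [← hON] at h1
    have hm := mod_eq_one_card_sylow (p := 7) (G := N)
    have h42 : Nat.card (normalizer ((P : Subgroup G) : Set G) ⊓ N : Subgroup G) ∣ 42 :=
      (card_dvd_of_le inf_le_left).trans (dvd_of_eq (card_norm_seven hG P))
    have h7 : 7 ∣ Nat.card (normalizer ((P : Subgroup G) : Set G) ⊓ N : Subgroup G) :=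
      (dvd_of_eq (card_sylow_prime hd7.1 hd7.2 P).symm).trans
        (card_dvd_of_le (le_inf le_normalizer hP))
    obtain ⟨c, hc⟩ := h7
    rw [hc] at h42 h1
    have hc6 : c ∣ 6 := Nat.dvd_of_mul_dvd_mul_left (by norm_num : 0 < 7) (by simpa using h42)
    have : c ≤ 6 := Nat.le_of_dvd (by norm_num) hc6
    rw [hc]
    interval_cases c <;> omega
  -- a conjugate normalised by `ι gx`
  have hxo : orderOf (ι gx) = 3 := by
    rw [orderOf_injective ι hinj]
    exact orderOf_eq_prime gx_order.1 gx_order.2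
  obtain ⟨x₁, hx₁⟩ := exists_prime_orderOf_dvd_card' (p := 3)
    (G := (normalizer ((P : Subgroup G) : Set G) ⊓ N : Subgroup G)) (by rw [hPN]; norm_num)
  have hx₁' : orderOf (x₁ : G) = 3 := by rw [Subgroup.orderOf_coe, hx₁]
  have hf3 : (Nat.card G).factorization 3 = 1 := by
    have := (Nat.prime_three.pow_dvd_iff_le_factorization Nat.card_pos.ne').not.mp hd3.2
    have := (Nat.prime_three.dvd_iff_one_le_factorization Nat.card_pos.ne').mp hd3.1
    omega
  let A : Sylow 3 G := Sylow.ofCard (zpowers (x₁ : G)) (by rw [Nat.card_zpowers, hx₁', hf3, pow_one])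
  let B : Sylow 3 G := Sylow.ofCard (zpowers (ι gx)) (by rw [Nat.card_zpowers, hxo, hf3, pow_one])
  have hA : (A : Subgroup G) ≤ N := zpowers_le.mpr x₁.2.2
  have hB : (B : Subgroup G) ≤ N := zpowers_le.mpr hxN
  obtain ⟨g, hgAB⟩ := MulAction.exists_smul_eq N (A.subtype hA) (B.subtype hB)
  obtain ⟨k, hk'⟩ : ∃ k : ℤ, (g : G) * (x₁ : G) ^ k * (g : G)⁻¹ = ι gx := by
    have hmem : (⟨ι gx, hxN⟩ : N) ∈ ((g • A.subtype hA : Sylow 3 N) : Subgroup N) := by
      rw [hgAB]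
      exact mem_zpowers (ι gx)
    obtain ⟨u, hu, e⟩ := hmem
    obtain ⟨k, hk⟩ := mem_zpowers_iff.mp (show (u : G) ∈ zpowers (x₁ : G) from hu)
    exact ⟨k, by rw [hk]; exact congrArg Subtype.val e⟩
  -- the element of order seven
  obtain ⟨σ₀, hσ₀⟩ := exists_prime_orderOf_dvd_card' (p := 7) (G := (P : Subgroup G))
    (by rw [card_sylow_prime hd7.1 hd7.2 P])
  set σ := (g : G) * σ₀ * (g : G)⁻¹ with hσdef
  have hσ₀G : orderOf (σ₀ : G) = 7 := by rw [Subgroup.orderOf_coe, hσ₀]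
  have hσ : orderOf σ = 7 := by
    rw [hσdef, show (g : G) * σ₀ * (g : G)⁻¹ = MulAut.conj (g : G) σ₀ from rfl,
      MulEquiv.orderOf_eq (MulAut.conj (g : G)), hσ₀G]
  have hσN : σ ∈ N := mul_mem (mul_mem g.2 (hP σ₀.2)) (inv_mem g.2)
  have hzP : zpowers (σ₀ : G) = (P : Subgroup G) := eq_of_le_of_card_ge (zpowers_le.mpr σ₀.2)
    (by rw [Nat.card_zpowers, hσ₀G, card_sylow_prime hd7.1 hd7.2 P])
  obtain ⟨l, hl⟩ : ∃ l : ℕ, ι gx * σ * (ι gx)⁻¹ = σ ^ l := by
    have hxk : (x₁ : G) ^ k ∈ normalizer ((P : Subgroup G) : Set G) := Subgroup.zpow_mem _ x₁.2.1 k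
    have hmem : (x₁ : G) ^ k * σ₀ * ((x₁ : G) ^ k)⁻¹ ∈ zpowers (σ₀ : G) := by
      rw [hzP]; exact (mem_normalizer_iff.mp hxk _).mp σ₀.2
    rw [← mem_powers_iff_mem_zpowers, Submonoid.mem_powers_iff] at hmem
    obtain ⟨l, hl⟩ := hmem
    refine ⟨l, ?_⟩
    rw [← hk', hσdef, conj_pow, hl]
    group
  have hσT : ∀ d : ℕ, σ ^ d ∈ T → 7 ∣ d := fun d hd => by
    by_contra h7
    have ho : orderOf (σ ^ d) = 7 := by
      rw [Nat.Coprime.orderOf_pow, hσ]
      rw [hσ]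
      exact (Nat.Prime.coprime_iff_not_dvd (by norm_num)).mpr h7
    have := Subgroup.orderOf_dvd_natCard T hd
    rw [ho, hT] at this
    norm_num at this
  have horb : ∀ u ∈ S0, u ≠ 1 → ∃ j : ℕ, σ ^ j * t * (σ ^ j)⁻¹ = u := by
    have hset : (fun j : Fin 7 => σ ^ (j : ℕ) * t * (σ ^ (j : ℕ))⁻¹) '' Set.univ = O := by
      refine Set.eq_of_subset_of_ncard_le (fun u hu => ?_) ?_ (Set.toFinite _)
      · obtain ⟨j, -, rfl⟩ := hu
        exact ⟨σ ^ (j : ℕ), pow_mem hσN _, rfl⟩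
      · rw [hO7, Set.ncard_image_of_injective, Set.ncard_univ, Nat.card_fin]
        intro i j hij
        by_contra hne'
        wlog hlt : (i : ℕ) < (j : ℕ) generalizing i j
        · exact this hij.symm (Ne.symm hne') (by omega)
        have hmemT : σ ^ ((j : ℕ) - i) ∈ T := by
          rw [mem_centralizer_singleton_iff]
          have e : σ ^ (j : ℕ) = σ ^ (i : ℕ) * σ ^ ((j : ℕ) - i) := by
            rw [← pow_add]; congr 1; omega
          simp only [e] at hij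
          have h2 : t = σ ^ ((j : ℕ) - i) * t * (σ ^ ((j : ℕ) - i))⁻¹ := by
            have := congrArg (fun u => (σ ^ (i : ℕ))⁻¹ * u * σ ^ (i : ℕ)) hij
            simpa [mul_assoc] using this
          exact (mul_inv_eq_iff_eq_mul.mp h2.symm)
        have := hσT _ hmemT
        have := i.isLt
        have := j.isLt
        omega
    intro u hu hu1
    obtain ⟨j, -, e⟩ : u ∈ (fun j : Fin 7 => σ ^ (j : ℕ) * t * (σ ^ (j : ℕ))⁻¹) '' Set.univ := by
      rw [hset]; exact hall u hu hu1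
    exact ⟨j, e⟩
  have hinS : ∀ j : ℕ, ∃ a, IsV a ∧
      (σ ^ j * t * (σ ^ j)⁻¹ = ι a ∨ σ ^ j * t * (σ ^ j)⁻¹ = t * ι a) := fun j =>
    (hmemS _).mp ((mem_normalizer_iff.mp (pow_mem hσN j) t).mp htS)
  refine ⟨σ, hσ, ?_, hinS, fun a ha ha1 => horb _ ((hmemS _).mpr ⟨a, ha, Or.inl rfl⟩)
    fun h => ha1 (hι1 a h)⟩
  -- the action of `ι gx`
  have hl7 : σ ^ l = σ ^ (l % 7) := by rw [← hσ, pow_mod_orderOf]
  rw [hl7] at hl
  obtain ⟨m, hm, hl'⟩ : ∃ m < 7, ι gx * σ * (ι gx)⁻¹ = σ ^ m := ⟨l % 7, Nat.mod_lt _ (by norm_num), hl⟩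
  clear hl hl7
  have hit : ∀ n : ℕ, ι gx * σ ^ n * (ι gx)⁻¹ = σ ^ (m * n) := fun n => by
    rw [← conj_pow, hl', ← pow_mul]
  have h3' : σ ^ (m * (m * m)) = σ := by
    rw [← hit, ← hit, ← hl']
    have hx3 : (ι gx) ^ 3 = 1 := by rw [← map_pow, gx_order.1, map_one]
    calc ι gx * (ι gx * (ι gx * σ * (ι gx)⁻¹) * (ι gx)⁻¹) * (ι gx)⁻¹
        = (ι gx) ^ 3 * σ * ((ι gx) ^ 3)⁻¹ := by simp only [pow_succ, pow_zero, one_mul]; group
      _ = σ := by rw [hx3]; group
  have hmod : m * (m * m) % 7 = 1 := by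
    have h' : σ ^ (m * (m * m)) = σ ^ 1 := by rw [h3', pow_one]
    rw [pow_eq_pow_iff_modEq, hσ] at h'
    exact h'
  have hm1 : m ≠ 1 := fun e => by
    subst e
    rw [pow_one] at hl'
    have hc : ι gx ∈ centralizer ({σ} : Set G) :=
      mem_centralizer_singleton_iff.mpr (mul_inv_eq_iff_eq_mul.mp hl')
    let R : Sylow 7 G := Sylow.ofCard (zpowers σ) (by
      have := ((Fact.out : Nat.Prime 7).pow_dvd_iff_le_factorization Nat.card_pos.ne').not.mp hd7.2
      have := ((Fact.out : Nat.Prime 7).dvd_iff_one_le_factorization Nat.card_pos.ne').mp hd7.1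
      rw [Nat.card_zpowers, hσ, show (Nat.card G).factorization 7 = 1 by omega, pow_one])
    have hcR : ι gx ∈ centralizer ((R : Subgroup G) : Set G) := by
      show ι gx ∈ centralizer ((zpowers σ : Subgroup G) : Set G)
      rw [zpowers_eq_closure, centralizer_closure]
      exact hc
    have := Subgroup.orderOf_dvd_natCard _ hcR
    rw [hxo, ← sel_snd R] at this
    rcases sel_seven hG with h | h <;> rw [h] at this <;> norm_num at this
  interval_cases m <;> (try norm_num at hmod)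
  · exact absurd rfl hm1
  · exact Or.inl hl'
  · refine Or.inr ?_
    have e2 : σ = ι gx * σ ^ 2 * (ι gx)⁻¹ := by
      rw [hit, show 4 * 2 = 7 + 1 by norm_num, pow_succ, ← hσ, pow_orderOf_eq_one, one_mul]
    calc (ι gx)⁻¹ * σ * ι gx = (ι gx)⁻¹ * (ι gx * σ ^ 2 * (ι gx)⁻¹) * ι gx := by rw [← e2]
      _ = σ ^ 2 := by group

/-- A frame exists. -/
theorem exists_frame : Nonempty (Frame G) := by
  obtain ⟨t, ht, hT⟩ := exists_cent hG
  obtain ⟨ι₀, hinj₀, hcomm₀, hne₀, hcov₀⟩ := exists_iota hG ht hT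
  obtain ⟨σ₀, ho₀, hx₀, hin₀, hex₀⟩ := exists_seven hG ht hT ι₀ hinj₀ hcomm₀ hne₀ hcov₀
  obtain ⟨ι, hinj, hcomm, hne, hcov, hx, hin, hex⟩ : ∃ ι : Model.A5 →* G, Function.Injective ι ∧
      (∀ a, ι a * t = t * ι a) ∧ (∀ a, ι a ≠ t) ∧
      (∀ x ∈ centralizer ({t} : Set G), ∃ a, x = ι a ∨ x = t * ι a) ∧
      ι gx * σ₀ * (ι gx)⁻¹ = σ₀ ^ 2 ∧
      (∀ j : ℕ, ∃ a, IsV a ∧
        (σ₀ ^ j * t * (σ₀ ^ j)⁻¹ = ι a ∨ σ₀ ^ j * t * (σ₀ ^ j)⁻¹ = t * ι a)) ∧
      (∀ a, IsV a → a ≠ 1 → ∃ j : ℕ, σ₀ ^ j * t * (σ₀ ^ j)⁻¹ = ι a) := by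
    rcases hx₀ with h | h
    · exact ⟨ι₀, hinj₀, hcomm₀, hne₀, hcov₀, h, hin₀, hex₀⟩
    · refine ⟨ι₀.comp tau.toMonoidHom, hinj₀.comp tau.injective, fun a => hcomm₀ _,
        fun a => hne₀ _, fun x hx' => ?_, ?_, fun j => ?_, fun a ha ha1 => ?_⟩
      · obtain ⟨a, e⟩ := hcov₀ x hx'
        exact ⟨tau.symm a, by simpa using e⟩
      · show ι₀ (tau gx) * σ₀ * (ι₀ (tau gx))⁻¹ = σ₀ ^ 2
        rw [tau_x, map_inv, inv_inv]
        exact h
      · obtain ⟨a, ha, e⟩ := hin₀ j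
        exact ⟨tau.symm a, (tau_V a ha).2, by simpa using e⟩
      · obtain ⟨j, e⟩ := hex₀ (tau a) (tau_V a ha).1 fun e => ha1 (tau.injective (e.trans (map_one _).symm))
        exact ⟨j, e⟩
  obtain ⟨j, hj⟩ := hex gv (Or.inr (Or.inl rfl)) gv_ne.1
  have hj7 : ¬ 7 ∣ j := fun h7 => by
    obtain ⟨c, rfl⟩ := h7
    rw [pow_mul, ← ho₀, pow_orderOf_eq_one, one_pow, one_mul, inv_one, mul_one] at hj
    exact hne gv hj.symm
  set σ := σ₀ ^ j with hσdef
  have hσo : orderOf σ = 7 := by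
    rw [hσdef, Nat.Coprime.orderOf_pow, ho₀]
    rw [ho₀]
    exact (Nat.Prime.coprime_iff_not_dvd (by norm_num)).mpr hj7
  have hσx : ι gx * σ * (ι gx)⁻¹ = σ ^ 2 := by
    rw [hσdef, ← conj_pow, hx, ← pow_mul, ← pow_mul, mul_comm]
  have hσin : ∀ i : ℕ, ∃ a, IsV a ∧
      (σ ^ i * t * (σ ^ i)⁻¹ = ι a ∨ σ ^ i * t * (σ ^ i)⁻¹ = t * ι a) := fun i => by
    rw [hσdef, ← pow_mul]; exact hin _
  have hxt : (ι gx)⁻¹ * t = t * (ι gx)⁻¹ := by rw [← map_inv]; exact hcomm _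
  have hv : σ * ι gv * σ⁻¹ = ι gv1 := by
    have e : ι gv1 = ι gx * ι gv * (ι gx)⁻¹ := by rw [← map_inv, ← map_mul, ← map_mul]; rfl
    rw [e, ← hj]
    calc σ * (σ * t * σ⁻¹) * σ⁻¹ = σ ^ 2 * t * (σ ^ 2)⁻¹ := by rw [pow_two]; group
      _ = ι gx * σ * (ι gx)⁻¹ * t * (ι gx * σ * (ι gx)⁻¹)⁻¹ := by rw [hσx]
      _ = ι gx * σ * ((ι gx)⁻¹ * t) * ι gx * σ⁻¹ * (ι gx)⁻¹ := by group
      _ = ι gx * σ * (t * (ι gx)⁻¹) * ι gx * σ⁻¹ * (ι gx)⁻¹ := by rw [hxt]
      _ = ι gx * (σ * t * σ⁻¹) * (ι gx)⁻¹ := by group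
  have hv2 : σ * (σ * ι gv1 * σ⁻¹) * σ⁻¹ = ι gv * ι gv1 := by
    have e : ι gv * ι gv1 = ι gx * ι gv1 * (ι gx)⁻¹ := by
      rw [← map_inv, ← map_mul, ← map_mul, ← map_mul, gv_mul.1]; rfl
    rw [e, ← hv, ← hj]
    calc σ * (σ * (σ * (σ * t * σ⁻¹) * σ⁻¹) * σ⁻¹) * σ⁻¹
        = σ ^ 2 * σ ^ 2 * t * (σ ^ 2 * σ ^ 2)⁻¹ := by simp only [pow_two]; group
      _ = (ι gx * σ * (ι gx)⁻¹) * (ι gx * σ * (ι gx)⁻¹) * t *
            ((ι gx * σ * (ι gx)⁻¹) * (ι gx * σ * (ι gx)⁻¹))⁻¹ := by rw [hσx]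
      _ = ι gx * σ * σ * ((ι gx)⁻¹ * t) * ι gx * σ⁻¹ * σ⁻¹ * (ι gx)⁻¹ := by group
      _ = ι gx * σ * σ * (t * (ι gx)⁻¹) * ι gx * σ⁻¹ * σ⁻¹ * (ι gx)⁻¹ := by rw [hxt]
      _ = ι gx * (σ * (σ * t * σ⁻¹) * σ⁻¹) * (ι gx)⁻¹ := by group
  refine ⟨⟨t, σ, ι, ht, hT, hinj, hcomm, hne, hcov, hσo, hσx, hj, hv, ?_⟩⟩
  obtain ⟨a, ha, hw⟩ := hσin 3
  rw [show σ ^ 3 * t * (σ ^ 3)⁻¹ = σ * ι gv1 * σ⁻¹ by
    rw [← hv, ← hj]; simp only [pow_succ, pow_zero, one_mul]; group] at hw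
  have hmul : ∀ p q : G, σ * (p * q) * σ⁻¹ = σ * p * σ⁻¹ * (σ * q * σ⁻¹) := fun p q => by group
  have hne1 : ∀ b c : Model.A5, ι b * t ≠ ι c := fun b c h => hne (b⁻¹ * c) (by
    rw [map_mul, map_inv, ← h]; group)
  rcases hw with hw | hw <;> rw [hw] at hv2 <;> rcases ha with rfl | rfl | rfl | rfl
  · rw [map_one, mul_one, mul_inv_cancel, ← map_mul] at hv2
    exact absurd (hinj ((map_one ι).trans hv2)) (by decide +kernel)
  · rw [hv, ← map_mul] at hv2
    exact absurd (hinj hv2) (by decide +kernel)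
  · rw [hw, ← map_mul] at hv2
    exact absurd (hinj hv2) (by decide +kernel)
  · rw [← gv_mul.1, map_mul, hmul, hv, hw, ← map_mul, ← map_mul] at hv2
    exact absurd (hinj hv2) (by decide +kernel)
  · rw [map_one, mul_one, hj, ← map_mul] at hv2
    exact absurd (hinj hv2) (by decide +kernel)
  · exact hw
  · rw [hmul, hj, hw, ← mul_assoc, ← map_mul] at hv2
    exact absurd (by
      calc ι (gv * gv1) * t = t * ι (gv * gv1) := hcomm _
        _ = t * ι gv * ι gv1 := by rw [map_mul, mul_assoc]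
        _ = ι gv * t * ι gv1 := by rw [hcomm]
        _ = ι (gv * gv1) := by rw [hv2]) (hne1 _ _)
  · rw [hmul, hj, ← gv_mul.1, map_mul, hmul, hv, hw] at hv2
    have e := mul_left_cancel (((mul_left_cancel hv2)).trans (mul_one (ι gv1)).symm)
    exact absurd ((eq_inv_of_mul_eq_one_right e).trans (inv_eq_of_mul_eq_one_right
      (show t * t = 1 by rw [← pow_two, ← ht, pow_orderOf_eq_one]))) (hne gv2)

/-- The further relation. -/
theorem exists_rel (F : Frame G) :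
    F.Rel 1 y1 a0 ∨ F.Rel 1 y1 a1 ∨ F.Rel 3 y3 a0 ∨ F.Rel 3 y3 a1 := by
  have f5 : Fact (Nat.Prime 5) := ⟨by norm_num⟩
  have hd5 := (oddPrime hG (p := 5) (by simp)).2
  obtain ⟨Q, hQ⟩ := exists_sylow_le hG hd5.1 hd5.2 (H := centralizer ({F.t} : Set G))
    (by rw [F.t_card]; norm_num)
  obtain ⟨r, j, hr, hrQ, htr, hj, hjt, hjr, hjne, hjQ⟩ := five_data hG F.t_order F.t_card Q hQ
  obtain ⟨q, hq⟩ := exists_prime_orderOf_dvd_card' (p := 5) (G := (Q : Subgroup G))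
    (by rw [card_sylow_prime hd5.1 hd5.2 Q])
  have hqo : orderOf (q : G) = 5 := by rw [Subgroup.orderOf_coe, hq]
  obtain ⟨a, hqa, ha5⟩ := F.exists_of_pow (x := (q : G))
    (mem_centralizer_singleton_iff.mp (hQ q.2)) (n := 5) ⟨2, rfl⟩ (orderOf_dvd_iff_pow_eq_one.mp (dvd_of_eq hqo))
  have ha1 : a ≠ 1 := fun e => by
    rw [e, map_one] at hqa
    rw [hqa, orderOf_one] at hqo
    omega
  -- the involution
  have hjj : j * j = 1 := by rw [← pow_two, ← hj, pow_orderOf_eq_one]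
  obtain ⟨u, hu⟩ := F.cover j (mem_centralizer_singleton_iff.mpr hjt)
  have hu2 : u * u = 1 := by
    refine F.inj ?_
    rw [map_mul, map_one]
    rcases hu with e | e
    · rw [← e, hjj]
    · rw [e] at hjj
      calc F.ι u * F.ι u = F.t * F.t * (F.ι u * F.ι u) := by rw [F.t_mul_t, one_mul]
        _ = F.t * (F.t * F.ι u) * F.ι u := by group
        _ = F.t * (F.ι u * F.t) * F.ι u := by rw [F.comm]
        _ = F.t * F.ι u * (F.t * F.ι u) := by group
        _ = 1 := hjj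
  have hu1 : u ≠ 1 := fun e => by
    rw [e, map_one, mul_one] at hu
    rcases hu with e' | e'
    · rw [e', orderOf_one] at hj; omega
    · exact hjne e'
  obtain ⟨h, hh⟩ := invol_conj u hu2 hu1
  -- transport
  set c := MulAut.conj (F.ι h) with hc
  have hct : c F.t = F.t := by
    rw [hc, MulAut.conj_apply, F.comm, mul_inv_cancel_right]
  set r' := c r with hr'
  set a' := h * a * h⁻¹ with ha'
  have hca : c q = F.ι a' := by rw [hc, MulAut.conj_apply, hqa, ha', map_mul, map_mul, map_inv]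
  have hr'3 : r' ^ 3 = 1 := by rw [hr', ← map_pow, ← hr, pow_orderOf_eq_one, map_one]
  have hr'a : Commute r' (F.ι a') := by
    rw [← hca, hr']
    exact (Commute.map (show Commute r (q : G) from (hrQ q q.2).symm) c.toMonoidHom)
  have hr't : F.t * r' * F.t⁻¹ = r'⁻¹ := by
    rw [hr', ← hct, ← map_inv, ← map_mul, ← map_mul, htr, map_inv]
  have hj' : c j = F.ι gv ∨ c j = F.t * F.ι gv := by
    have hh' : F.ι h * F.ι u * (F.ι h)⁻¹ = F.ι gv := by rw [← hh, map_mul, map_mul, map_inv]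
    rcases hu with e | e
    · left; rw [e, hc, MulAut.conj_apply, hh']
    · right; rw [e, map_mul c, hct, hc, MulAut.conj_apply, hh']
  have hj'r : Commute (c j) r' := Commute.map (show Commute j r from hjr) c.toMonoidHom
  have hva : gv * a' * gv⁻¹ = a'⁻¹ := by
    refine F.inj ?_
    rw [map_mul, map_mul, map_inv, map_inv, ← hca]
    have e := congrArg c (hjQ q q.2)
    rw [map_mul, map_mul, map_inv, map_inv] at e
    rcases hj' with e' | e'
    · rw [← e']; exact e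
    · rw [e'] at e
      calc F.ι gv * c q * (F.ι gv)⁻¹ = F.t * (F.ι gv * c q * (F.ι gv)⁻¹) * F.t⁻¹ := by
            rw [hca, ← map_inv, ← map_mul, ← map_mul, ← F.comm, mul_inv_cancel_right]
        _ = F.t * F.ι gv * c q * (F.t * F.ι gv)⁻¹ := by group
        _ = (c q)⁻¹ := e
  have ha'5 : a' ^ 5 = 1 := by rw [ha', conj_pow, ha5, mul_one, mul_inv_cancel]
  have ha'1 : a' ≠ 1 := by
    rw [ha', Ne, mul_inv_eq_one]
    exact fun e => ha1 (mul_left_cancel (e.trans (mul_one h).symm))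
  have hrne : r' ≠ 1 := fun e => by
    have : r = 1 := c.injective (e.trans (map_one c).symm)
    rw [this, orderOf_one] at hr
    omega
  -- the element `y`
  have general : ∀ k : ℕ, ∀ w : Model.A5,
      Commute r' (F.s ^ k * F.t * (F.s ^ k)⁻¹) →
      ((F.s ^ k)⁻¹ * F.t * F.s ^ k = F.ι w ∨ (F.s ^ k)⁻¹ * F.t * F.s ^ k = F.t * F.ι w) →
      ∃ y, y ^ 3 = 1 ∧ y ≠ 1 ∧ w * y * w⁻¹ = y⁻¹ ∧ F.Rel k y a' := by
    intro k w hk hw
    set y' := (F.s ^ k)⁻¹ * r' * F.s ^ k with hy'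
    have hy't : y' * F.t = F.t * y' := by
      calc y' * F.t = (F.s ^ k)⁻¹ * (r' * (F.s ^ k * F.t * (F.s ^ k)⁻¹)) * F.s ^ k := by
            rw [hy']; group
        _ = (F.s ^ k)⁻¹ * ((F.s ^ k * F.t * (F.s ^ k)⁻¹) * r') * F.s ^ k := by rw [hk.eq]
        _ = F.t * y' := by rw [hy']; group
    have hy'3 : y' ^ 3 = 1 := by
      calc y' ^ 3 = (F.s ^ k)⁻¹ * r' ^ 3 * F.s ^ k := by
            rw [hy']; simp only [pow_succ, pow_zero, one_mul]; group
        _ = 1 := by rw [hr'3]; group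
    obtain ⟨y, hy, hy3⟩ := F.exists_of_pow hy't (n := 3) ⟨1, rfl⟩ hy'3
    have hinv : ((F.s ^ k)⁻¹ * F.t * F.s ^ k) * y' * ((F.s ^ k)⁻¹ * F.t * F.s ^ k)⁻¹ = y'⁻¹ := by
      calc ((F.s ^ k)⁻¹ * F.t * F.s ^ k) * y' * ((F.s ^ k)⁻¹ * F.t * F.s ^ k)⁻¹
          = (F.s ^ k)⁻¹ * (F.t * r' * F.t⁻¹) * F.s ^ k := by rw [hy']; group
        _ = y'⁻¹ := by rw [hr't, hy']; group
    refine ⟨y, hy3, fun e => hrne ?_, F.inj ?_, ?_⟩
    · rw [e, map_one, hy'] at hy
      calc r' = F.s ^ k * ((F.s ^ k)⁻¹ * r' * F.s ^ k) * (F.s ^ k)⁻¹ := by group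
        _ = 1 := by rw [hy]; group
    · rw [hy] at hinv
      rw [map_mul, map_mul, map_inv, map_inv]
      rcases hw with e | e
      · rwa [e] at hinv
      · rw [e] at hinv
        calc F.ι w * F.ι y * (F.ι w)⁻¹ = F.t * (F.ι w * F.ι y * (F.ι w)⁻¹) * F.t⁻¹ := by
              rw [← map_inv, ← map_mul, ← map_mul, ← F.comm, mul_inv_cancel_right]
          _ = F.t * F.ι w * F.ι y * (F.t * F.ι w)⁻¹ := by group
          _ = (F.ι y)⁻¹ := hinv
    · rw [Frame.Rel, ← hy, hy']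
      simpa [mul_assoc] using hr'a
  have apow : ∀ {k : ℕ} {y b : Model.A5}, F.Rel k y b → b ^ 5 = 1 → b ≠ 1 →
      gv * b * gv⁻¹ = b⁻¹ → F.Rel k y a0 ∨ F.Rel k y a1 := by
    intro k y b hR h5 h1 hi
    rcases a_cases b h5 h1 hi with (e | e | e | e) | (e | e | e | e)
    · exact Or.inl (e ▸ hR)
    all_goals first
      | exact Or.inl (by rw [e]; exact hR.pow_right F _)
      | exact Or.inr (by rw [e]; exact hR.pow_right F _)
      | exact Or.inr (by rw [e]; exact hR)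
  have flip : gv * (gv1 * a' * gv1⁻¹) * gv⁻¹ = (gv1 * a' * gv1⁻¹)⁻¹ := conj_inverts a' hva
  have flip5 : (gv1 * a' * gv1⁻¹) ^ 5 = 1 := by rw [conj_pow, ha'5, mul_one, mul_inv_cancel]
  have flip1 : gv1 * a' * gv1⁻¹ ≠ 1 := by
    rw [Ne, mul_inv_eq_one]
    exact fun e => ha'1 (mul_left_cancel (e.trans (mul_one gv1).symm))
  rcases hj' with e | e
  · rw [e] at hj'r
    obtain ⟨y, hy3, hy1, hw, hR⟩ := general 1 gv1 (by rw [pow_one, F.st]; exact hj'r.symm)
      (Or.inr (by rw [pow_one]; exact F.back_one))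
    have hgo : ∀ b, F.Rel 1 y1 b → b ^ 5 = 1 → b ≠ 1 → gv * b * gv⁻¹ = b⁻¹ →
        F.Rel 1 y1 a0 ∨ F.Rel 1 y1 a1 ∨ F.Rel 3 y3 a0 ∨ F.Rel 3 y3 a1 := fun b h1 h2 h3 h4 =>
      (apow h1 h2 h3 h4).imp_right Or.inl
    rcases y1_cases y hy3 hy1 hw with hy | hy
    · refine hgo a' ?_ ha'5 ha'1 hva
      rcases hy with hy | hy
      · exact hy ▸ hR
      · have := hR.inv_left F
        rwa [hy, inv_inv] at this
    · have hR' := hR.conj F (w := gv) (z := F.ι gv) (by rw [pow_one, F.sv]) (Or.inl rfl)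
      refine hgo _ ?_ flip5 flip1 flip
      rcases hy with hy | hy <;> rw [hy] at hR'
      · exact hR'
      · have := hR'.inv_left F
        rwa [inv_inv] at this
  · rw [e] at hj'r
    obtain ⟨y, hy3, hy1, hw, hR⟩ := general 3 gv2 (by rw [F.three_t]; exact hj'r.symm)
      (Or.inl F.back_three)
    have hgo : ∀ b, F.Rel 3 y3 b → b ^ 5 = 1 → b ≠ 1 → gv * b * gv⁻¹ = b⁻¹ →
        F.Rel 1 y1 a0 ∨ F.Rel 1 y1 a1 ∨ F.Rel 3 y3 a0 ∨ F.Rel 3 y3 a1 := fun b h1 h2 h3 h4 =>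
      Or.inr (Or.inr (apow h1 h2 h3 h4))
    rcases y3_cases y hy3 hy1 hw with hy | hy
    · refine hgo a' ?_ ha'5 ha'1 hva
      rcases hy with hy | hy
      · exact hy ▸ hR
      · have := hR.inv_left F
        rwa [hy, inv_inv] at this
    · have hR' := hR.conj F (w := gv1) (z := F.t * F.ι gv1)
        (by
          calc F.s ^ 3 * (F.t * F.ι gv1) * (F.s ^ 3)⁻¹
              = F.s ^ 3 * F.s⁻¹ * F.t * F.s * (F.s ^ 3)⁻¹ := by rw [← F.back_one]; group
            _ = F.s ^ 2 * F.t * (F.s ^ 2)⁻¹ := by group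
            _ = F.ι gv1 := F.two_t) (Or.inr rfl)
      refine hgo _ ?_ flip5 flip1 flip
      rcases hy with hy | hy <;> rw [hy] at hR'
      · exact hR'
      · have := hR'.inv_left F
        rwa [inv_inv] at this

end CfsgLib.J1Unique
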