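import Cfsg.Agent.Lib.PresCert.PairedBound

/-!
# The relators for the uniqueness of the Janko group

Letters: `0` the involution, `1`, `2`, `3`, `4` the generators of `A₅` and the inverse of the
second one, `5` the element of order seven and `6` its inverse. The head of a word acts first.
-/

set_option autoImplicit false

namespace CfsgLib.J1Unique

/-- The inverse letters. -/
def jiv (g : ℕ) : ℕ := [0, 1, 3, 2, 4, 6, 5].getD g 0

/-- The common relators. -/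
def jRels : List (List ℕ) :=
  [[0, 0], [1, 1], [4, 4], [2, 2, 2], [1, 0, 1, 0], [3, 0, 2, 0], [4, 0, 4, 0], [2, 1, 2, 1, 2, 1],
    [4, 1, 4, 1, 4, 1, 4, 1, 4, 1], [4, 2, 4, 2], [3, 1, 2, 1, 3, 1, 2, 1],
    [3, 1, 2, 4, 3, 1, 2, 4, 3, 1, 2, 4], [5, 5, 5, 5, 5, 5, 5], [6, 6, 3, 5, 2], [1, 6, 0, 5],
    [3, 1, 2, 6, 1, 5], [0, 1, 6, 3, 1, 2, 5]]

/-- The words of the subgroup. -/
def jSubs : List (List ℕ) := [[0], [1], [2], [3], [4]]

/-- All letters. -/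
def jLetters : List (List ℕ) := [[0], [1], [2], [3], [4], [5], [6]]

/-- The further relator of `tabOneZero`. -/
def relOneZero : List ℕ :=
  [2, 4, 1, 6, 3, 1, 2, 4, 5, 1, 4, 3, 6, 4, 3, 1, 2, 5]

/-- The further relator of `tabOneOne`. -/
def relOneOne : List ℕ :=
  [4, 1, 6, 3, 1, 2, 4, 5, 1, 4, 6, 4, 3, 1, 2, 5]

/-- The further relator of `tabThreeZero`. -/
def relThreeZero : List ℕ :=
  [2, 4, 1, 6, 6, 6, 2, 1, 4, 5, 5, 5, 1, 4, 3, 6, 6, 6, 4, 1, 3, 5, 5, 5]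

/-- The further relator of `tabThreeOne`. -/
def relThreeOne : List ℕ :=
  [4, 1, 6, 6, 6, 2, 1, 4, 5, 5, 5, 1, 4, 6, 6, 6, 4, 1, 3, 5, 5, 5]

end CfsgLib.J1Unique
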