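import Cfsg.Agent.Lib.J1Unique.Frame
import Cfsg.Agent.Lib.J1Unique.Rels
import Mathlib

/-!
# The generators attached to a frame

They generate the group, satisfy the relators, and the further relation is one of four relators.
-/

set_option autoImplicit false
set_option linter.unusedSectionVars false
set_option synthInstance.maxSize 512
set_option synthInstance.maxHeartbeats 200000

namespace CfsgLib.J1Unique

open Subgroup CfsgLib.PresCert CfsgLib.SmallGroups CfsgLib.SmallGroups.Order175560 Model

/-- The letters in the model. -/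
def modelGen : ℕ → Model.A5
  | 1 => gv
  | 2 => gx
  | 3 => gx⁻¹
  | 4 => gf
  | _ => 1

theorem gv_gf_inv : gv⁻¹ = gv ∧ gf⁻¹ = gf := by decide +kernel

namespace Frame

variable {G : Type*} [Group G] [Finite G] (F : Frame G)

/-- The letters. -/
def gens : ℕ → G
  | 0 => F.t
  | 1 => F.ι gv
  | 2 => F.ι gx
  | 3 => F.ι gx⁻¹
  | 4 => F.ι gf
  | 5 => F.s
  | 6 => F.s⁻¹
  | _ => 1

theorem act_model : ∀ {w : List ℕ}, (∀ g ∈ w, 1 ≤ g ∧ g ≤ 4) →
    act F.gens w = F.ι (act modelGen w)
  | [], _ => by rw [act_nil, act_nil, map_one]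
  | g :: w, h => by
    obtain ⟨h1, h4⟩ := h g (by simp)
    rw [act_cons, act_cons, map_mul, act_model (fun a ha => h a (by simp [ha]))]
    interval_cases g <;> rfl

theorem gens_inv : ∀ g, g < 7 → F.gens g * F.gens (jiv g) = 1 := by
  intro g hg
  interval_cases g
  · exact F.t_mul_t
  · show F.ι gv * F.ι gv = 1
    rw [← map_mul, show gv * gv = 1 by decide +kernel, map_one]
  · show F.ι gx * F.ι gx⁻¹ = 1
    rw [← map_mul, mul_inv_cancel, map_one]
  · show F.ι gx⁻¹ * F.ι gx = 1
    rw [← map_mul, inv_mul_cancel, map_one]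
  · show F.ι gf * F.ι gf = 1
    rw [← map_mul, show gf * gf = 1 by decide +kernel, map_one]
  · exact mul_inv_cancel _
  · exact inv_mul_cancel _

theorem rels_ok : ∀ w ∈ jRels, act F.gens w = 1 := by
  have hm : ∀ w : List ℕ, (∀ g ∈ w, 1 ≤ g ∧ g ≤ 4) → act modelGen w = 1 → act F.gens w = 1 :=
    fun w h e => by rw [F.act_model h, e, map_one]
  have hv : F.ι gv * F.ι gv = 1 := by rw [← map_mul, show gv * gv = 1 by decide +kernel, map_one]
  have hv1 : F.ι gx * F.ι gv * F.ι gx⁻¹ = F.ι gv1 := by rw [← map_mul, ← map_mul]; rfl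
  have htt := F.t_mul_t
  have tc : ∀ a b : Model.A5, a * b = 1 → F.t * F.ι a * (F.t * F.ι b) = 1 := fun a b h => by
    rw [← mul_assoc, mul_assoc F.t (F.ι a) F.t, F.comm, ← mul_assoc, htt, one_mul, ← map_mul, h,
      map_one]
  intro w hw
  simp only [jRels, List.mem_cons, List.not_mem_nil, or_false] at hw
  rcases hw with rfl | rfl | rfl | rfl | rfl | rfl | rfl | rfl | rfl | rfl | rfl | rfl | rfl | rfl |
    rfl | rfl | rfl
  · simpa [act, gens] using htt
  · exact hm _ (by decide) (by decide +kernel)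
  · exact hm _ (by decide) (by decide +kernel)
  · exact hm _ (by decide) (by decide +kernel)
  · simpa [act, gens, mul_assoc] using tc gv gv (by decide +kernel)
  · simpa [act, gens, mul_assoc] using tc gx gx⁻¹ (mul_inv_cancel _)
  · simpa [act, gens, mul_assoc] using tc gf gf (by decide +kernel)
  · exact hm _ (by decide) (by decide +kernel)
  · exact hm _ (by decide) (by decide +kernel)
  · exact hm _ (by decide) (by decide +kernel)
  · exact hm _ (by decide) (by decide +kernel)
  · exact hm _ (by decide) (by decide +kernel)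
  · simpa [act, gens, pow_succ, mul_assoc] using F.s_pow_seven
  · simp only [act, gens, one_mul]
    rw [map_inv, F.sx, pow_two]
    group
  · simp only [act, gens, one_mul]
    rw [F.st, hv]
  · simp only [act, gens, one_mul]
    calc F.s * F.ι gv * F.s⁻¹ * F.ι gx * F.ι gv * F.ι gx⁻¹
        = (F.s * F.ι gv * F.s⁻¹) * (F.ι gx * F.ι gv * F.ι gx⁻¹) := by group
      _ = 1 := by rw [F.sv, hv1, ← map_mul, show gv1 * gv1 = 1 by decide +kernel, map_one]
  · simp only [act, gens, one_mul]
    calc F.s * F.ι gx * F.ι gv * F.ι gx⁻¹ * F.s⁻¹ * F.ι gv * F.t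
        = F.s * (F.ι gx * F.ι gv * F.ι gx⁻¹) * F.s⁻¹ * F.ι gv * F.t := by group
      _ = F.t * (F.ι gv * F.ι gv) * F.t := by rw [hv1, F.sv1, mul_assoc F.t (F.ι gv)]
      _ = 1 := by rw [hv, mul_one, htt]

/-- The further relation as a relator. -/
theorem rel_of (h : F.Rel 1 y1 a0 ∨ F.Rel 1 y1 a1 ∨ F.Rel 3 y3 a0 ∨ F.Rel 3 y3 a1) :
    act F.gens relOneZero = 1 ∨ act F.gens relOneOne = 1 ∨ act F.gens relThreeZero = 1 ∨
      act F.gens relThreeOne = 1 := by
  have hiv : (F.ι gv)⁻¹ = F.ι gv := by rw [← map_inv, gv_gf_inv.1]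
  have hif : (F.ι gf)⁻¹ = F.ι gf := by rw [← map_inv, gv_gf_inv.2]
  rcases h with h | h | h | h
  · left
    have := commutatorElement_eq_one_iff_mul_comm.mpr h.eq
    simpa [act, gens, relOneZero, commutatorElement_def, y1, a0, pow_succ, mul_assoc, mul_inv_rev, hiv, hif]
      using this
  · right; left
    have := commutatorElement_eq_one_iff_mul_comm.mpr h.eq
    simpa [act, gens, relOneOne, commutatorElement_def, y1, a1, pow_succ, mul_assoc, mul_inv_rev, hiv, hif]
      using this
  · right; right; left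
    have := commutatorElement_eq_one_iff_mul_comm.mpr h.eq
    simpa [act, gens, relThreeZero, commutatorElement_def, y3, a0, pow_succ, mul_assoc, mul_inv_rev, hiv, hif]
      using this
  · right; right; right
    have := commutatorElement_eq_one_iff_mul_comm.mpr h.eq
    simpa [act, gens, relThreeOne, commutatorElement_def, y3, a1, pow_succ, mul_assoc, mul_inv_rev, hiv, hif]
      using this

theorem gens_mem (g : ℕ) (hg : g < 7) : F.gens g ∈ genGrp jLetters F.gens :=
  Subgroup.subset_closure ⟨[g], by interval_cases g <;> simp [jLetters],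
    by rw [act_cons, act_nil, one_mul]⟩

/-- The letters generate. -/
theorem generates [IsSimpleGroup G] (hG : Nat.card G = 175560) : genGrp jLetters F.gens = ⊤ := by
  have f7 : Fact (Nat.Prime 7) := ⟨by norm_num⟩
  set L := genGrp jLetters F.gens with hL
  set T := centralizer ({F.t} : Set G) with hT
  have hT' : Nat.card T = 120 := F.t_card
  have hTL : T ≤ L := by
    intro x hx
    have hι : ∀ a, F.ι a ∈ L := by
      intro a
      have ha : a ∈ closure ({gx, gv, gf} : Set Model.A5) := by rw [generators]; exact mem_top a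
      induction ha using Subgroup.closure_induction with
      | mem b hb =>
        rcases hb with rfl | rfl | rfl
        · exact F.gens_mem 2 (by norm_num)
        · exact F.gens_mem 1 (by norm_num)
        · exact F.gens_mem 4 (by norm_num)
      | one => rw [map_one]; exact one_mem L
      | mul b c _ _ hb hc => rw [map_mul]; exact mul_mem hb hc
      | inv b _ hb => rw [map_inv]; exact inv_mem hb
    obtain ⟨a, rfl | rfl⟩ := F.cover x hx
    · exact hι a
    · exact mul_mem (F.gens_mem 0 (by norm_num)) (hι a)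
  have hsL : F.s ∈ L := F.gens_mem 5 (by norm_num)
  by_contra hne
  have hlt : Nat.card L < 175560 :=
    hG ▸ lt_of_le_of_ne (card_le_card_group L) fun e => hne ((card_eq_iff_eq_top L).mp e)
  have h120 : 120 ∣ Nat.card L := (dvd_of_eq hT'.symm).trans (card_dvd_of_le hTL)
  have h7 : 7 ∣ Nat.card L := by
    rw [← F.s_order]; exact Subgroup.orderOf_dvd_natCard L hsL
  obtain ⟨m, hm⟩ := (show Nat.Coprime 120 7 by norm_num).mul_dvd_of_dvd_of_dvd h120 h7
  have hm209 : m ∣ 209 := by
    have := card_subgroup_dvd_card L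
    rw [hm, hG] at this
    exact Nat.dvd_of_mul_dvd_mul_left (by norm_num : 0 < 840) (by simpa using this)
  have hd := (oddPrime hG (p := 7) (by simp)).2
  obtain ⟨P, hP⟩ := exists_sylow_le hG hd.1 hd.2 h7
  have hcount := SylowLocal.card_eq_mul_inf P hP
  set n := Nat.card (Sylow 7 L) with hn
  have hn1 : n % 7 = 1 := mod_eq_one_card_sylow
  set M := Nat.card (normalizer ((P : Subgroup G) : Set G) ⊓ L : Subgroup G) with hM
  have hM42 : M ∣ 42 := (card_dvd_of_le inf_le_left).trans (dvd_of_eq (card_norm_seven hG P))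
  have hP7 : Nat.card (P : Subgroup G) = 7 := card_sylow_prime hd.1 hd.2 P
  have hM7 : 7 ∣ M := (dvd_of_eq hP7.symm).trans (card_dvd_of_le (le_inf le_normalizer hP))
  obtain ⟨c, hc⟩ := hM7
  have hc6 : c ∣ 6 := Nat.dvd_of_mul_dvd_mul_left (by norm_num : 0 < 7) (by simpa [hc] using hM42)
  have hcle : c ≤ 6 := Nat.le_of_dvd (by norm_num) hc6
  rw [hc, hm] at hcount
  have hn120 : n = 120 ∧ m = 1 := by
    have hm' : m ∈ Nat.divisors 209 := Nat.mem_divisors.mpr ⟨hm209, by norm_num⟩
    rw [show Nat.divisors 209 = {1, 11, 19, 209} by decide +kernel] at hm'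
    simp only [Finset.mem_insert, Finset.mem_singleton] at hm'
    rcases hm' with rfl | rfl | rfl | rfl
    all_goals interval_cases c <;> omega
  obtain ⟨hn120', rfl⟩ := hn120
  -- the elements of order different from seven
  set U := {x : G | x ∈ L ∧ orderOf x ≠ 7} with hU
  set W := {x : G | x ∈ L ∧ orderOf x = 7} with hW
  have hUW : U.ncard + W.ncard = 840 := by
    rw [← Set.ncard_union_eq (Set.disjoint_left.mpr fun x hx hx' => hx.2 hx'.2) (Set.toFinite _)
      (Set.toFinite _), show U ∪ W = (L : Set G) by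
        ext x
        simp only [hU, hW, Set.mem_union, Set.mem_setOf_eq, SetLike.mem_coe]
        tauto, ← Nat.card_coe_set_eq]
    exact hm.trans (mul_one _)
  have hW720 : 720 ≤ W.ncard := by
    have hS : ∀ R : Sylow 7 G, Nat.card (R : Subgroup G) = 7 := fun R => card_sylow_prime hd.1 hd.2 R
    have hxo : ∀ (R : Sylow 7 G) {x : G}, x ∈ (R : Subgroup G) → x ≠ 1 → orderOf x = 7 := by
      intro R x hx hx1
      have h3 := (R : Subgroup G).orderOf_dvd_natCard hx
      rw [hS R] at h3
      exact ((Fact.out : Nat.Prime 7).eq_one_or_self_of_dvd _ h3).resolve_left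
        fun e => hx1 (orderOf_eq_one_iff.mp e)
    let f : (Σ R : {R : Sylow 7 G // (R : Subgroup G) ≤ L}, {x : (R.1 : Subgroup G) // x ≠ 1}) → W :=
      fun z => ⟨(z.2.1 : G), z.1.2 z.2.1.2, hxo z.1.1 z.2.1.2 fun e => z.2.2 (Subtype.ext e)⟩
    have hf : Function.Injective f := by
      rintro ⟨⟨R, hR⟩, ⟨⟨x, hx⟩, hx1⟩⟩ ⟨⟨R', hR'⟩, ⟨⟨x', hx'⟩, hx1'⟩⟩ e
      have e' : x = x' := congrArg Subtype.val e
      subst e'
      have ho := hxo R hx fun e => hx1 (Subtype.ext e)
      have e1 : zpowers x = (R : Subgroup G) :=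
        eq_of_le_of_card_ge (zpowers_le.mpr hx) (by rw [hS R, Nat.card_zpowers, ho])
      have e2 : zpowers x = (R' : Subgroup G) :=
        eq_of_le_of_card_ge (zpowers_le.mpr hx') (by rw [hS R', Nat.card_zpowers, ho])
      obtain rfl : R = R' := Sylow.ext (e1.symm.trans e2)
      rfl
    have h := Nat.card_le_card_of_injective f hf
    have hR6 : ∀ R : {R : Sylow 7 G // (R : Subgroup G) ≤ L},
        Nat.card {x : (R.1 : Subgroup G) // x ≠ 1} = 6 := fun R => by
      have h5 := Set.ncard_compl ({1} : Set (R.1 : Subgroup G))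
      rw [Set.ncard_singleton, hS] at h5
      rw [show (6 : ℕ) = 7 - 1 from rfl, ← h5, ← Nat.card_coe_set_eq]
      rfl
    have := Fintype.ofFinite {R : Sylow 7 G // (R : Subgroup G) ≤ L}
    rw [Nat.card_sigma, Finset.sum_congr rfl (fun R _ => hR6 R), Finset.sum_const, Finset.card_univ,
      ← Nat.card_eq_fintype_card, ← SylowLocal.card_sylow_eq_card_le P hP, ← hn, hn120',
      Nat.card_coe_set_eq] at h
    exact le_trans (by norm_num) h
  have hTU : (T : Set G) = U := by
    refine Set.eq_of_subset_of_ncard_le (fun x hx => ⟨hTL hx, fun e => ?_⟩) ?_ (Set.toFinite _)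
    · have := Subgroup.orderOf_dvd_natCard T hx
      rw [e, hT'] at this
      norm_num at this
    · rw [← Nat.card_coe_set_eq (T : Set G)]
      have : Nat.card (T : Set G) = 120 := hT'
      omega
  -- `σ` would centralise
  have hxo : orderOf (F.ι gx) = 3 := by
    rw [orderOf_injective F.ι F.inj]
    exact orderOf_eq_prime gx_order.1 gx_order.2
  have hmem : F.s⁻¹ * F.ι gx * F.s ∈ U := by
    refine ⟨mul_mem (mul_mem (inv_mem hsL) (F.gens_mem 2 (by norm_num))) hsL, fun e => ?_⟩
    have e' : orderOf (MulAut.conj F.s⁻¹ (F.ι gx)) = 7 := by simpa using e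
    rw [MulEquiv.orderOf_eq (MulAut.conj F.s⁻¹)] at e'
    omega
  rw [← hTU, SetLike.mem_coe, mem_centralizer_singleton_iff] at hmem
  have hc : F.ι gx * F.ι gv = F.ι gv * F.ι gx := by
    rw [← F.st]
    calc F.ι gx * (F.s * F.t * F.s⁻¹) = F.s * (F.s⁻¹ * F.ι gx * F.s * F.t) * F.s⁻¹ := by group
      _ = F.s * (F.t * (F.s⁻¹ * F.ι gx * F.s)) * F.s⁻¹ := by rw [hmem]
      _ = F.s * F.t * F.s⁻¹ * F.ι gx := by group
  rw [← map_mul, ← map_mul] at hc
  exact absurd (F.inj hc) (by decide +kernel)

end Frame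

end CfsgLib.J1Unique
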