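import Cfsg.Agent.Lib.J1Unique.Rels
import Cfsg.Agent.Lib.J1Unique.TabOneOne

/-!
# Kernel checks of `tabOneOne`
-/

set_option autoImplicit false
set_option maxRecDepth 100000

namespace CfsgLib.J1Unique

open CfsgLib.PresCert

theorem tabOneOne_block0 : Paired.block tabOneOne jiv 0 = true := by decide +kernel

theorem tabOneOne_block1 : Paired.block tabOneOne jiv 1 = true := by decide +kernel

theorem tabOneOne_shape : shapeOk tabOneOne = true := by decide +kernel

theorem tabOneOne_hints : Paired.hintsOk tabOneOne jiv (jRels ++ [relOneOne]) tabOneOneHints = true := by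
  decide +kernel

theorem tabOneOne_marks : Y555.marksOk tabOneOne jSubs = true := by decide +kernel

theorem tabOneOne_closedBlock0 : closedBlock tabOneOne jLetters 0 = true := by decide +kernel

theorem tabOneOne_closed : Paired.Closed tabOneOne jiv jLetters where
  shape := tabOneOne_shape
  slots b hb := by
    have h : tabOneOne.N = 2000 := rfl
    rcases (show b = 0 ∨ b = 1 by omega) with rfl | rfl
    · exact tabOneOne_block0
    · exact tabOneOne_block1
  words := by decide +kernel
  closed b hb := by
    have h : tabOneOne.n = 1 := rfl
    rcases (show b = 0 by omega) with rfl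
    · exact tabOneOne_closedBlock0

end CfsgLib.J1Unique
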