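import Cfsg.Agent.Lib.J1Unique.Rels
import Cfsg.Agent.Lib.J1Unique.TabOneZero

/-!
# Kernel checks of `tabOneZero`
-/

set_option autoImplicit false
set_option maxRecDepth 100000

namespace CfsgLib.J1Unique

open CfsgLib.PresCert

theorem tabOneZero_block0 : Paired.block tabOneZero jiv 0 = true := by decide +kernel

theorem tabOneZero_block1 : Paired.block tabOneZero jiv 1 = true := by decide +kernel

theorem tabOneZero_shape : shapeOk tabOneZero = true := by decide +kernel

theorem tabOneZero_hints : Paired.hintsOk tabOneZero jiv (jRels ++ [relOneZero]) tabOneZeroHints = true := by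
  decide +kernel

theorem tabOneZero_marks : Y555.marksOk tabOneZero jSubs = true := by decide +kernel

theorem tabOneZero_closedBlock0 : closedBlock tabOneZero jLetters 0 = true := by decide +kernel

theorem tabOneZero_closed : Paired.Closed tabOneZero jiv jLetters where
  shape := tabOneZero_shape
  slots b hb := by
    have h : tabOneZero.N = 1856 := rfl
    rcases (show b = 0 ∨ b = 1 by omega) with rfl | rfl
    · exact tabOneZero_block0
    · exact tabOneZero_block1
  words := by decide +kernel
  closed b hb := by
    have h : tabOneZero.n = 1 := rfl
    rcases (show b = 0 by omega) with rfl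
    · exact tabOneZero_closedBlock0

end CfsgLib.J1Unique
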