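import Cfsg.Agent.Lib.J1Unique.Rels
import Cfsg.Agent.Lib.J1Unique.TabThreeOne

/-!
# Kernel checks of `tabThreeOne`
-/

set_option autoImplicit false
set_option maxRecDepth 100000

namespace CfsgLib.J1Unique

open CfsgLib.PresCert

theorem tabThreeOne_block0 : Paired.block tabThreeOne jiv 0 = true := by decide +kernel

theorem tabThreeOne_block1 : Paired.block tabThreeOne jiv 1 = true := by decide +kernel

theorem tabThreeOne_block2 : Paired.block tabThreeOne jiv 2 = true := by decide +kernel

theorem tabThreeOne_block3 : Paired.block tabThreeOne jiv 3 = true := by decide +kernel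

theorem tabThreeOne_block4 : Paired.block tabThreeOne jiv 4 = true := by decide +kernel

theorem tabThreeOne_block5 : Paired.block tabThreeOne jiv 5 = true := by decide +kernel

theorem tabThreeOne_block6 : Paired.block tabThreeOne jiv 6 = true := by decide +kernel

theorem tabThreeOne_block7 : Paired.block tabThreeOne jiv 7 = true := by decide +kernel

theorem tabThreeOne_block8 : Paired.block tabThreeOne jiv 8 = true := by decide +kernel

theorem tabThreeOne_block9 : Paired.block tabThreeOne jiv 9 = true := by decide +kernel

theorem tabThreeOne_shape : shapeOk tabThreeOne = true := by decide +kernel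

theorem tabThreeOne_hints : Paired.hintsOk tabThreeOne jiv (jRels ++ [relThreeOne]) tabThreeOneHints = true := by
  decide +kernel

theorem tabThreeOne_marks : Y555.marksOk tabThreeOne jSubs = true := by decide +kernel

theorem tabThreeOne_closedBlock0 : closedBlock tabThreeOne jLetters 0 = true := by decide +kernel

theorem tabThreeOne_closedBlock1 : closedBlock tabThreeOne jLetters 1 = true := by decide +kernel

theorem tabThreeOne_closed : Paired.Closed tabThreeOne jiv jLetters where
  shape := tabThreeOne_shape
  slots b hb := by
    have h : tabThreeOne.N = 9024 := rfl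
    rcases (show b = 0 ∨ b = 1 ∨ b = 2 ∨ b = 3 ∨ b = 4 ∨ b = 5 ∨ b = 6 ∨ b = 7 ∨ b = 8 ∨ b = 9 by omega) with rfl | rfl | rfl | rfl | rfl | rfl | rfl | rfl | rfl | rfl
    · exact tabThreeOne_block0
    · exact tabThreeOne_block1
    · exact tabThreeOne_block2
    · exact tabThreeOne_block3
    · exact tabThreeOne_block4
    · exact tabThreeOne_block5
    · exact tabThreeOne_block6
    · exact tabThreeOne_block7
    · exact tabThreeOne_block8
    · exact tabThreeOne_block9
  words := by decide +kernel
  closed b hb := by
    have h : tabThreeOne.n = 1463 := rfl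
    rcases (show b = 0 ∨ b = 1 by omega) with rfl | rfl
    · exact tabThreeOne_closedBlock0
    · exact tabThreeOne_closedBlock1

end CfsgLib.J1Unique
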