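import Cfsg.Agent.Lib.J1Unique.Rels
import Cfsg.Agent.Lib.J1Unique.TabThreeZero

/-!
# Kernel checks of `tabThreeZero`
-/

set_option autoImplicit false
set_option maxRecDepth 100000

namespace CfsgLib.J1Unique

open CfsgLib.PresCert

theorem tabThreeZero_block0 : Paired.block tabThreeZero jiv 0 = true := by decide +kernel

theorem tabThreeZero_block1 : Paired.block tabThreeZero jiv 1 = true := by decide +kernel

theorem tabThreeZero_block2 : Paired.block tabThreeZero jiv 2 = true := by decide +kernel

theorem tabThreeZero_block3 : Paired.block tabThreeZero jiv 3 = true := by decide +kernel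

theorem tabThreeZero_block4 : Paired.block tabThreeZero jiv 4 = true := by decide +kernel

theorem tabThreeZero_block5 : Paired.block tabThreeZero jiv 5 = true := by decide +kernel

theorem tabThreeZero_block6 : Paired.block tabThreeZero jiv 6 = true := by decide +kernel

theorem tabThreeZero_shape : shapeOk tabThreeZero = true := by decide +kernel

theorem tabThreeZero_hints : Paired.hintsOk tabThreeZero jiv (jRels ++ [relThreeZero]) tabThreeZeroHints = true := by
  decide +kernel

theorem tabThreeZero_marks : Y555.marksOk tabThreeZero jSubs = true := by decide +kernel

theorem tabThreeZero_closedBlock0 : closedBlock tabThreeZero jLetters 0 = true := by decide +kernel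

theorem tabThreeZero_closed : Paired.Closed tabThreeZero jiv jLetters where
  shape := tabThreeZero_shape
  slots b hb := by
    have h : tabThreeZero.N = 6208 := rfl
    rcases (show b = 0 ∨ b = 1 ∨ b = 2 ∨ b = 3 ∨ b = 4 ∨ b = 5 ∨ b = 6 by omega) with rfl | rfl | rfl | rfl | rfl | rfl | rfl
    · exact tabThreeZero_block0
    · exact tabThreeZero_block1
    · exact tabThreeZero_block2
    · exact tabThreeZero_block3
    · exact tabThreeZero_block4
    · exact tabThreeZero_block5
    · exact tabThreeZero_block6
  words := by decide +kernel
  closed b hb := by
    have h : tabThreeZero.n = 1 := rfl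
    rcases (show b = 0 by omega) with rfl
    · exact tabThreeZero_closedBlock0

end CfsgLib.J1Unique
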