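import Cfsg.Agent.Lib.J1Unique.Gens
import Cfsg.Agent.Lib.J1Unique.TabOneZeroCheck
import Cfsg.Agent.Lib.J1Unique.TabOneOneCheck
import Cfsg.Agent.Lib.J1Unique.TabThreeZeroCheck
import Cfsg.Agent.Lib.J1Unique.TabThreeOneCheck
import Mathlib

/-!
# Uniqueness of the simple group of order 175560

Three of the four possible further relations make the coset enumeration over the centraliser
collapse; the remaining one gives `1463` cosets, and the generators of two such groups generate
the graph of an isomorphism.
-/

set_option autoImplicit false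
set_option linter.unusedSectionVars false
set_option synthInstance.maxSize 512
set_option synthInstance.maxHeartbeats 200000

namespace CfsgLib.J1Unique

open Subgroup CfsgLib.PresCert Model

section

variable {G : Type*} [Group G] [Finite G] (F : Frame G)

theorem gens_mem_cent {g : ℕ} (hg : g ≤ 4) :
    F.gens g ∈ centralizer ({F.t} : Set G) := by
  rw [mem_centralizer_singleton_iff]
  interval_cases g
  · rfl
  all_goals exact F.comm _

/-- An enumeration with one coset contradicts the order. -/
theorem collapse [IsSimpleGroup G] (hG : Nat.card G = 175560) {D : Data} {rel : List ℕ}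
    {hints : List (ℕ × ℕ × Bool)} (hng : D.ng = 7) (hn : D.n = 1)
    (V : Paired.Closed D jiv jLetters) (h1 : Paired.hintsOk D jiv (jRels ++ [rel]) hints = true)
    (h2 : Y555.marksOk D jSubs = true) (hrel : act F.gens rel = 1) : False := by
  set K := centralizer ({F.t} : Set G)
  have H : Paired.PairHyp D jiv F.gens ((1 : G) : G ⧸ K) := by
    refine Paired.pairHyp_of_hints (fun g hg => F.gens_inv g (hng ▸ hg)) ?_ ?_ h1 h2
    · intro w hw
      rcases List.mem_append.mp hw with h | h
      · exact F.rels_ok w h
      · rw [List.mem_singleton.mp h]; exact hrel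
    · intro w hw
      rw [MulAction.Quotient.smul_coe, smul_eq_mul, mul_one, QuotientGroup.eq, mul_one]
      refine inv_mem ?_
      simp only [jSubs, List.mem_cons, List.not_mem_nil, or_false] at hw
      rcases hw with rfl | rfl | rfl | rfl | rfl <;>
        · rw [act_cons, act_nil, one_mul]
          exact gens_mem_cent F (by norm_num)
  obtain ⟨-, hle⟩ := Paired.card_le (W := jLetters) (dvd_of_eq F.t_card |> Nat.le_of_dvd (by norm_num))
    V H
  rw [F.generates hG, card_top, hG, hn] at hle
  norm_num at hle

theorem cond_mul (e d : Bool) (a b : Model.A5) :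
    cond e F.t 1 * F.ι a * (cond d F.t 1 * F.ι b) = cond (xor e d) F.t 1 * F.ι (a * b) := by
  cases e <;> cases d <;> simp only [cond_true, cond_false, one_mul, Bool.xor_false,
    Bool.false_xor, Bool.xor_self, map_mul]
  · rw [← mul_assoc, F.comm a, mul_assoc]
  · rw [← mul_assoc]
  · rw [← mul_assoc (F.t * F.ι a), mul_assoc F.t (F.ι a) F.t, F.comm a, ← mul_assoc F.t F.t,
      F.t_mul_t, one_mul]

end

/-- A homomorphism maps the group of the words onto that of the image letters. -/
theorem genGrp_le_map {M M' : Type*} [Group M] [Group M'] {S : List (List ℕ)} {gen : ℕ → M}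
    {gen' : ℕ → M'} (f : M →* M') (h : ∀ g, f (gen g) = gen' g) :
    genGrp S gen' ≤ (genGrp S gen).map f := by
  refine (closure_le _).mpr ?_
  rintro _ ⟨w, hw, rfl⟩
  refine ⟨act gen w, subset_closure ⟨w, hw, rfl⟩, ?_⟩
  clear hw
  induction w with
  | nil => exact map_one f
  | cons g w ih => rw [act_cons, act_cons, map_mul, ih, h]

variable {G : Type*} [Group G] [Finite G] [IsSimpleGroup G] (hG : Nat.card G = 175560)
include hG

/-- The further relator holds for some frame. -/
theorem exists_good : ∃ F : Frame G, act F.gens relThreeOne = 1 := by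
  obtain ⟨F⟩ := exists_frame hG
  refine ⟨F, ?_⟩
  rcases F.rel_of (exists_rel hG F) with h | h | h | h
  · exact (collapse F hG rfl rfl tabOneZero_closed tabOneZero_hints tabOneZero_marks h).elim
  · exact (collapse F hG rfl rfl tabOneOne_closed tabOneOne_hints tabOneOne_marks h).elim
  · exact (collapse F hG rfl rfl tabThreeZero_closed tabThreeZero_hints tabThreeZero_marks h).elim
  · exact h

/-- Two simple groups of order 175560 are isomorphic. -/
theorem iso {H : Type*} [Group H] [Finite H] [IsSimpleGroup H] (hH : Nat.card H = 175560) :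
    Nonempty (G ≃* H) := by
  obtain ⟨F, hF⟩ := exists_good hG
  obtain ⟨F', hF'⟩ := exists_good hH
  let gen : ℕ → G × H := fun g => (F.gens g, F'.gens g)
  have hact : ∀ w, act gen w = (act F.gens w, act F'.gens w) := fun w => by
    induction w with
    | nil => rfl
    | cons g w ih => rw [act_cons, act_cons, act_cons, ih]; rfl
  -- the diagonal copy of the centraliser
  let φ : Bool × Model.A5 → G × H := fun p =>
    (cond p.1 F.t 1 * F.ι p.2, cond p.1 F'.t 1 * F'.ι p.2)
  have hmul : ∀ p q : Bool × Model.A5, φ p * φ q = φ (xor p.1 q.1, p.2 * q.2) := by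
    rintro ⟨e, a⟩ ⟨d, b⟩
    exact Prod.ext (cond_mul F e d a b) (cond_mul F' e d a b)
  let K : Subgroup (G × H) :=
    { carrier := Set.range φ
      one_mem' := ⟨(false, 1), by simp [φ]⟩
      mul_mem' := by
        rintro _ _ ⟨p, rfl⟩ ⟨q, rfl⟩
        exact ⟨_, (hmul p q).symm⟩
      inv_mem' := by
        rintro _ ⟨p, rfl⟩
        refine ⟨(p.1, p.2⁻¹), (inv_eq_of_mul_eq_one_right ?_).symm⟩
        rw [hmul, mul_inv_cancel, Bool.xor_self]
        simp [φ] }
  have hKcard : Nat.card K ≤ 120 := by
    refine (Nat.card_le_card_of_surjective (fun p => (⟨φ p, p, rfl⟩ : K)) fun x => ?_).trans ?_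
    · obtain ⟨p, hp⟩ := x.2
      exact ⟨p, Subtype.ext hp⟩
    · rw [Nat.card_prod, Nat.card_eq_fintype_card, Fintype.card_bool, nat_card_alternatingGroup,
        Nat.card_eq_fintype_card, Fintype.card_fin]
      norm_num [Nat.factorial]
  have hgK : ∀ g, g ≤ 4 → gen g ∈ K := by
    intro g hg
    interval_cases g
    · exact ⟨(true, 1), by simp [φ, gen, Frame.gens]⟩
    · exact ⟨(false, gv), by simp [φ, gen, Frame.gens]⟩
    · exact ⟨(false, gx), by simp [φ, gen, Frame.gens]⟩
    · exact ⟨(false, gx⁻¹), by simp [φ, gen, Frame.gens]⟩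
    · exact ⟨(false, gf), by simp [φ, gen, Frame.gens]⟩
  have hP : Paired.PairHyp tabThreeOne jiv gen ((1 : G × H) : (G × H) ⧸ K) := by
    refine Paired.pairHyp_of_hints (fun g hg => Prod.ext (F.gens_inv g hg) (F'.gens_inv g hg)) ?_ ?_
      tabThreeOne_hints tabThreeOne_marks
    · intro w hw
      rw [hact]
      rcases List.mem_append.mp hw with h | h
      · rw [F.rels_ok w h, F'.rels_ok w h]; rfl
      · rw [List.mem_singleton.mp h, hF, hF']; rfl
    · intro w hw
      rw [MulAction.Quotient.smul_coe, smul_eq_mul, mul_one, QuotientGroup.eq, mul_one]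
      refine inv_mem ?_
      simp only [jSubs, List.mem_cons, List.not_mem_nil, or_false] at hw
      rcases hw with rfl | rfl | rfl | rfl | rfl <;>
        · rw [act_cons, act_nil, one_mul]
          exact hgK _ (by norm_num)
  obtain ⟨-, hle⟩ := Paired.card_le (W := jLetters) hKcard tabThreeOne_closed hP
  set P := genGrp jLetters gen
  rw [show tabThreeOne.n = 1463 from rfl] at hle
  have s1 : Function.Surjective ((MonoidHom.fst G H).comp P.subtype) := fun x => by
    obtain ⟨p, hp, e⟩ : x ∈ P.map (MonoidHom.fst G H) :=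
      genGrp_le_map (MonoidHom.fst G H) (fun _ => rfl) ((SetLike.ext_iff.mp (F.generates hG) x).mpr (mem_top x))
    exact ⟨⟨p, hp⟩, e⟩
  have s2 : Function.Surjective ((MonoidHom.snd G H).comp P.subtype) := fun x => by
    obtain ⟨p, hp, e⟩ : x ∈ P.map (MonoidHom.snd G H) :=
      genGrp_le_map (MonoidHom.snd G H) (fun _ => rfl) ((SetLike.ext_iff.mp (F'.generates hH) x).mpr (mem_top x))
    exact ⟨⟨p, hp⟩, e⟩
  have hP1 : Nat.card P = Nat.card G := le_antisymm (hG ▸ hle) (Nat.card_le_card_of_surjective _ s1)
  have b1 := (Nat.bijective_iff_surjective_and_card _).mpr ⟨s1, hP1⟩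
  have b2 := (Nat.bijective_iff_surjective_and_card _).mpr ⟨s2, hP1.trans (hG.trans hH.symm)⟩
  exact ⟨(MulEquiv.ofBijective _ b1).symm.trans (MulEquiv.ofBijective _ b2)⟩

end CfsgLib.J1Unique
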