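import Cfsg.Agent.Lib.J1Unique.Cent
import Cfsg.Agent.Lib.SmallGroups.AbelianSylow
import Cfsg.Agent.S3669
import Cfsg.Agent.S0494
import Mathlib

/-!
# The structure of an involution centraliser in a simple group of order 175560

A centraliser of order 120 is the direct product of the involution and an alternating group of
degree five, and its Sylow `2`-subgroups are elementary abelian.
-/

set_option autoImplicit false
set_option linter.unusedSectionVars false
set_option synthInstance.maxSize 512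
set_option synthInstance.maxHeartbeats 200000

namespace CfsgLib.J1Unique

open Subgroup CfsgLib.SmallGroups CfsgLib.SmallGroups.Order175560

/-- The alternating group of degree five. -/
abbrev A5 := alternatingGroup (Fin 5)

theorem a5_invol_conj : ∀ b : A5, b * b = 1 → b ≠ 1 → ∀ c : A5, c * c = 1 → c ≠ 1 →
    ∃ g, g * b * g⁻¹ = c := by decide +kernel

theorem a5_two_elt : ∀ b : A5, b ^ 8 = 1 → b * b = 1 := by decide +kernel

theorem zmod_five_sq : ∀ k : ZMod 5, k * k = 1 → k = 1 ∨ k = -1 := by decide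

variable {G : Type*} [Group G] [Finite G] [IsSimpleGroup G] (hG : Nat.card G = 175560)
variable {t : G} (ht : orderOf t = 2) (hT : Nat.card (centralizer ({t} : Set G)) = 120)
include hG ht hT

/-- The data at a Sylow `5`-subgroup of the centraliser. -/
theorem five_index [Fact (Nat.Prime 5)] (Q : Sylow 5 G)
    (hQ : (Q : Subgroup G) ≤ centralizer ({t} : Set G)) :
    Nat.card (Sylow 5 (centralizer ({t} : Set G))) = 6 ∧
      Nat.card (centralizer ((Q : Subgroup G) : Set G)) = 30 ∧
      Nat.card (centralizer ({t} : Set G) ⊓ centralizer ((Q : Subgroup G) : Set G) : Subgroup G)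
        = 10 := by
  have hd := (oddPrime hG (p := 5) (by simp)).2
  have hc := card_cent_of_le hG Q ht hQ (a := 15) ⟨7, rfl⟩
    (by rcases sel_five hG with h | h <;> simp [h])
  obtain ⟨i, hn, hi, he, hic, -⟩ := exists_index hd.1 hd.2 Q ht hQ (r := 15) ⟨7, rfl⟩ hc (by norm_num)
  rw [card_norm_five hG Q, hT] at he
  have hi' : i = 1 ∨ i = 3 := by
    have : i ∣ 3 := Nat.dvd_of_mul_dvd_mul_right (by norm_num : 0 < 5) (by simpa using hi)
    exact (Nat.dvd_prime (by norm_num)).mp this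
  rcases hi' with rfl | rfl
  · omega
  · exact ⟨by omega, hc, by omega⟩

/-- An element of order three at a Sylow `5`-subgroup, and an involution inverting the latter. -/
theorem five_data [Fact (Nat.Prime 5)] (Q : Sylow 5 G)
    (hQ : (Q : Subgroup G) ≤ centralizer ({t} : Set G)) :
    ∃ r j : G, orderOf r = 3 ∧ (∀ a ∈ (Q : Subgroup G), a * r = r * a) ∧ t * r * t⁻¹ = r⁻¹ ∧
      orderOf j = 2 ∧ j * t = t * j ∧ j * r = r * j ∧ j ≠ t ∧
        ∀ a ∈ (Q : Subgroup G), j * a * j⁻¹ = a⁻¹ := by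
  have f3 := Fact.mk Nat.prime_three
  have hd5 := (oddPrime hG (p := 5) (by simp)).2
  have hd3 := (oddPrime hG (p := 3) (by simp)).2
  obtain ⟨hn5, hc, hTC⟩ := five_index hG ht hT Q hQ
  set T := centralizer ({t} : Set G) with hTdef
  set C := centralizer ((Q : Subgroup G) : Set G) with hC
  set N := normalizer ((Q : Subgroup G) : Set G) with hN
  have hQ5 : Nat.card (Q : Subgroup G) = 5 := card_sylow_prime hd5.1 hd5.2 Q
  have htC : t ∈ C := mem_centralizer_iff.mpr fun a ha => mem_centralizer_singleton_iff.mp (hQ ha)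
  obtain ⟨R, hR⟩ := exists_sylow_le hG hd3.1 hd3.2 (H := C) (by rw [hc]; norm_num)
  have hR3 : Nat.card (R : Subgroup G) = 3 := card_sylow_prime hd3.1 hd3.2 R
  -- `R` is the only Sylow `3`-subgroup of `C`
  have huniq : ∀ R' : Sylow 3 G, (R' : Subgroup G) ≤ C → R' = R := by
    have h1 := SylowLocal.card_eq_mul_inf R hR
    set M := normalizer ((R : Subgroup G) : Set G) ⊓ C with hM
    have d3 : 3 ∣ Nat.card M := (dvd_of_eq hR3.symm).trans (card_dvd_of_le (le_inf le_normalizer hR))
    have d5 : 5 ∣ Nat.card M := (dvd_of_eq hQ5.symm).trans (card_dvd_of_le (le_inf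
      (fun x hx => centralizer_le_normalizer _ ((le_centralizer_iff.mp hR) hx))
      (sylow_le_centralizer hQ5)))
    obtain ⟨s, hs⟩ := Nat.Coprime.mul_dvd_of_dvd_of_dvd (by norm_num : Nat.Coprime 3 5) d3 d5
    have hm := mod_eq_one_card_sylow (p := 3) (G := C)
    rw [hs, hc] at h1
    have hone : Nat.card (Sylow 3 C) = 1 := by
      have : Nat.card (Sylow 3 C) * s = 2 := by nlinarith
      have hdv : Nat.card (Sylow 3 C) ∣ 2 := Dvd.intro _ this
      rcases (Nat.dvd_prime Nat.prime_two).mp hdv with e | e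
      · exact e
      · rw [e] at hm; omega
    rw [SylowLocal.card_sylow_eq_card_le R hR] at hone
    intro R' hR'
    exact congrArg Subtype.val
      ((Nat.card_eq_one_iff_unique.mp hone).1.elim (⟨R', hR'⟩ : {X : Sylow 3 G // (X : Subgroup G) ≤ C})
        ⟨R, hR⟩)
  have hNC : ∀ g ∈ N, ∀ c ∈ C, g * c * g⁻¹ ∈ C := by
    intro g hg c hc'
    rw [mem_centralizer_iff]
    intro a ha
    have ha' : g⁻¹ * a * g ∈ (Q : Subgroup G) := by
      have := (mem_normalizer_iff.mp (inv_mem hg) a).mp ha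
      rwa [inv_inv] at this
    have e := mem_centralizer_iff.mp hc' _ ha'
    calc a * (g * c * g⁻¹) = g * (g⁻¹ * a * g * c) * g⁻¹ := by group
      _ = g * (c * (g⁻¹ * a * g)) * g⁻¹ := by rw [e]
      _ = g * c * g⁻¹ * a := by group
  obtain ⟨r, hr⟩ : ∃ r : (R : Subgroup G), r ≠ 1 := by
    have : Nontrivial (R : Subgroup G) := Finite.one_lt_card_iff_nontrivial.mp (by omega)
    exact exists_ne 1
  have hro : orderOf (r : G) = 3 := by
    have h3 := (R : Subgroup G).orderOf_dvd_natCard r.2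
    rw [hR3] at h3
    exact (Nat.prime_three.eq_one_or_self_of_dvd _ h3).resolve_left
      fun e => hr (Subtype.ext (orderOf_eq_one_iff.mp e))
  have hzR : zpowers (r : G) = (R : Subgroup G) :=
    eq_of_le_of_card_ge (zpowers_le.mpr r.2) (by rw [hR3, Nat.card_zpowers, hro])
  -- conjugation by elements of `N` inverts or fixes `r`
  have hconj : ∀ g ∈ N, g * r * g⁻¹ = r ∨ g * r * g⁻¹ = (r : G)⁻¹ := by
    intro g hg
    have hle : ((g • R : Sylow 3 G) : Subgroup G) ≤ C := by
      rintro _ ⟨a, ha, rfl⟩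
      exact hNC g hg a (hR ha)
    have hmem : g * r * g⁻¹ ∈ (R : Subgroup G) := by
      exact (SetLike.ext_iff.mp (congrArg (fun X : Sylow 3 G => (X : Subgroup G)) (huniq _ hle)) _).mp
        ⟨r, r.2, rfl⟩
    replace hmem : g * r * g⁻¹ ∈ zpowers (r : G) := (SetLike.ext_iff.mp hzR _).mpr hmem
    rw [← mem_powers_iff_mem_zpowers, Submonoid.mem_powers_iff] at hmem
    obtain ⟨k₀, e⟩ := hmem
    rw [← pow_mod_orderOf, hro] at e
    obtain ⟨k, hk, e⟩ : ∃ k < 3, (r : G) ^ k = g * r * g⁻¹ := ⟨k₀ % 3, Nat.mod_lt _ (by norm_num), e⟩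
    interval_cases k
    · exfalso
      have : g * r * g⁻¹ = 1 := by rw [← e, pow_zero]
      exact hr (Subtype.ext (by simpa using this))
    · exact Or.inl (by rw [← e, pow_one])
    · refine Or.inr ?_
      rw [← e, eq_inv_iff_mul_eq_one, ← pow_succ, show 2 + 1 = orderOf (r : G) by rw [hro],
        pow_orderOf_eq_one]
  have htr : t * r * t⁻¹ = (r : G)⁻¹ := by
    refine (hconj t (centralizer_le_normalizer _ htC)).resolve_left fun e => ?_
    have hrT : (r : G) ∈ T := mem_centralizer_singleton_iff.mpr (mul_inv_eq_iff_eq_mul.mp e).symm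
    have := Subgroup.orderOf_dvd_natCard (T ⊓ C) (x := (r : G)) ⟨hrT, hR r.2⟩
    rw [hTC, hro] at this
    norm_num at this
  have hTN : Nat.card (N ⊓ T : Subgroup G) = 20 := by
    have := SylowLocal.card_eq_mul_inf Q hQ
    rw [hT, hn5, ← hN] at this
    omega
  obtain ⟨g, hgm, hgC⟩ : ∃ g ∈ N ⊓ T, g ∉ C := by
    by_contra hne
    push Not at hne
    have := card_dvd_of_le (le_inf inf_le_right hne : N ⊓ T ≤ T ⊓ C)
    rw [hTN, hTC] at this
    norm_num at this
  have htT : t ∈ N ⊓ T := ⟨centralizer_le_normalizer _ htC, mem_centralizer_singleton_iff.mpr rfl⟩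
  obtain ⟨g', hg'm, hg'C, hg'r⟩ : ∃ g' ∈ N ⊓ T, g' ∉ C ∧ g' * r * g'⁻¹ = r := by
    rcases hconj g hgm.1 with h | h
    · exact ⟨g, hgm, hgC, h⟩
    · refine ⟨g * t, mul_mem hgm htT, fun e => hgC (by simpa using mul_mem e (inv_mem htC)), ?_⟩
      calc g * t * r * (g * t)⁻¹ = g * (t * r * t⁻¹) * g⁻¹ := by group
        _ = (g * r * g⁻¹)⁻¹ := by rw [htr]; group
        _ = r := by rw [h, inv_inv]
  have hg'R : g' ∈ centralizer ((R : Subgroup G) : Set G) := by
    rw [← hzR, zpowers_eq_closure, centralizer_closure, mem_centralizer_singleton_iff]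
    exact mul_inv_eq_iff_eq_mul.mp hg'r
  have ho : orderOf g' ∣ 10 := by
    have h1 := Subgroup.orderOf_dvd_natCard _ hg'R
    have h2 := Subgroup.orderOf_dvd_natCard _ hg'm
    rw [card_cent_three hG R] at h1
    rw [hTN] at h2
    have := Nat.dvd_gcd h1 h2
    norm_num at this
    exact this
  have h5Q : ∀ x ∈ N, x ^ 5 = 1 → x ∈ C := by
    intro x hx h5
    rcases ((Nat.dvd_prime (Fact.out : Nat.Prime 5)).mp (orderOf_dvd_of_pow_eq_one h5)) with e | e
    · rw [orderOf_eq_one_iff.mp e]; exact one_mem _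
    · have hf : (Nat.card G).factorization 5 = 1 := by
        have := ((Fact.out : Nat.Prime 5).pow_dvd_iff_le_factorization Nat.card_pos.ne').not.mp hd5.2
        have := ((Fact.out : Nat.Prime 5).dvd_iff_one_le_factorization Nat.card_pos.ne').mp hd5.1
        omega
      let X : Sylow 5 G := Sylow.ofCard (zpowers x) (by rw [Nat.card_zpowers, e, hf, pow_one])
      have hX : (X : Subgroup G) ≤ N := zpowers_le.mpr hx
      have := sylow_eq_of_normalizes X Q hX
      have hxQ : x ∈ (Q : Subgroup G) := by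
        rw [← this]
        exact mem_zpowers x
      exact sylow_le_centralizer hQ5 hxQ
  have h10 : g' ^ 10 = 1 := orderOf_dvd_iff_pow_eq_one.mp ho
  have hj1 : (g' ^ 5) ^ 2 = 1 := by rw [← pow_mul]; exact h10
  have hjne : g' ^ 5 ≠ 1 := fun e => hg'C (h5Q g' hg'm.1 e)
  have hjC : g' ^ 5 ∉ C := fun hj => hg'C (by
    have h6 : g' ^ 6 ∈ C := h5Q _ (pow_mem hg'm.1 6)
      (by rw [← pow_mul, show 6 * 5 = 10 * 3 by norm_num, pow_mul, h10, one_pow])
    have : g' = g' ^ 6 * (g' ^ 5)⁻¹ := by rw [pow_succ' g' 5, mul_inv_cancel_right]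
    rw [this]
    exact mul_mem h6 (inv_mem hj))
  have hjr : g' ^ 5 * r = r * g' ^ 5 :=
    (Commute.pow_left (mul_inv_eq_iff_eq_mul.mp hg'r : Commute g' (r : G)) 5).eq
  refine ⟨r, g' ^ 5, hro, fun a ha => mem_centralizer_iff.mp (hR r.2) a ha, htr,
    orderOf_eq_prime hj1 hjne, mem_centralizer_singleton_iff.mp (pow_mem hg'm.2 5), hjr,
    fun e => ?_, ?_⟩
  · rw [e] at hjC
    exact hjC htC
  -- an involution outside `C` inverts `Q`
  have hjN : g' ^ 5 ∈ N := pow_mem hg'm.1 5
  have hcyc := isCyclic_of_prime_card hQ5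
  obtain ⟨q, hq⟩ := IsCyclic.exists_generator (α := (Q : Subgroup G))
  have hqo : orderOf (q : G) = 5 := by
    rw [Subgroup.orderOf_coe, orderOf_eq_card_of_forall_mem_zpowers hq, hQ5]
  obtain ⟨k, hk⟩ := mem_zpowers_iff.mp (hq ⟨g' ^ 5 * q * (g' ^ 5)⁻¹, (mem_normalizer_iff.mp hjN q).mp q.2⟩)
  have hk' : g' ^ 5 * q * (g' ^ 5)⁻¹ = (q : G) ^ k := by
    simpa using (congrArg Subtype.val hk).symm
  have hinv : (g' ^ 5)⁻¹ = g' ^ 5 := by
    rw [inv_eq_iff_mul_eq_one, ← pow_two, hj1]
  have hkk : (q : G) ^ (k * k) = (q : G) ^ (1 : ℤ) := by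
    rw [zpow_one, zpow_mul, ← hk', conj_zpow, ← hk']
    generalize g' ^ 5 = w at hj1
    rw [pow_two] at hj1
    calc w * (w * (q : G) * w⁻¹) * w⁻¹ = w * w * (q : G) * (w * w)⁻¹ := by group
      _ = q := by rw [hj1]; group
  rw [zpow_eq_zpow_iff_modEq, hqo] at hkk
  have hkz : ((k : ZMod 5)) * k = 1 := by
    have := (ZMod.intCast_eq_intCast_iff _ _ 5).mpr hkk
    simpa using this
  intro a ha
  obtain ⟨l, hl⟩ := mem_zpowers_iff.mp (hq ⟨a, ha⟩)
  have ha' : a = (q : G) ^ l := by simpa using (congrArg Subtype.val hl).symm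
  rw [ha', ← conj_zpow, hk']
  rcases zmod_five_sq _ hkz with e | e
  · exfalso
    have : (q : G) ^ k = q := by
      have h' : k ≡ 1 [ZMOD (5 : ℕ)] := (ZMod.intCast_eq_intCast_iff _ _ 5).mp (by simpa using e)
      rw [← hqo] at h'
      simpa using zpow_eq_zpow_iff_modEq.mpr h'
    refine hjC (mem_centralizer_iff.mpr fun x hx => ?_)
    obtain ⟨m, hm⟩ := mem_zpowers_iff.mp (hq ⟨x, hx⟩)
    have hx' : x = (q : G) ^ m := by simpa using (congrArg Subtype.val hm).symm
    rw [hx']
    refine (Commute.zpow_left ?_ m).eq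
    exact (mul_inv_eq_iff_eq_mul.mp (hk'.trans this)).symm
  · have h' : (q : G) ^ k = (q : G)⁻¹ := by
      have : k ≡ -1 [ZMOD (5 : ℕ)] := (ZMod.intCast_eq_intCast_iff _ _ 5).mp (by simpa using e)
      rw [← hqo] at this
      simpa using zpow_eq_zpow_iff_modEq.mpr this
    rw [h', inv_zpow]

/-- The centraliser is `⟨t⟩ × A₅`. -/
theorem exists_iota : ∃ ι : A5 →* G, Function.Injective ι ∧ (∀ a, ι a * t = t * ι a) ∧
    (∀ a, ι a ≠ t) ∧ ∀ x ∈ centralizer ({t} : Set G), ∃ a, x = ι a ∨ x = t * ι a := by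
  have f2 := Fact.mk Nat.prime_two
  have f5 : Fact (Nat.Prime 5) := ⟨by norm_num⟩
  set T := centralizer ({t} : Set G) with hTdef
  obtain ⟨Q, hQ⟩ := exists_sylow_le hG (oddPrime hG (p := 5) (by simp)).2.1
    (oddPrime hG (p := 5) (by simp)).2.2 (H := T) (by rw [hT]; norm_num)
  obtain ⟨hn5, -, -⟩ := five_index hG ht hT Q hQ
  obtain ⟨-, j₀, -, -, -, hj2, hjt, -, hjne, -⟩ := five_data hG ht hT Q hQ
  let z : T := ⟨t, mem_centralizer_singleton_iff.mpr rfl⟩
  have hzo : orderOf z = 2 := by rw [Subgroup.orderOf_mk, ht]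
  let Z : Subgroup T := zpowers z
  have hZc : ∀ y ∈ Z, ∀ x : T, x * y = y * x := by
    intro y hy x
    obtain ⟨k, rfl⟩ := mem_zpowers_iff.mp hy
    exact (Commute.zpow_right (Subtype.ext (mem_centralizer_singleton_iff.mp x.2) : Commute x z) k).eq
  have hZn : Z.Normal := ⟨fun y hy x => by rw [hZc y hy x, mul_inv_cancel_right]; exact hy⟩
  have hZcard : Nat.card Z = 2 := by rw [Nat.card_zpowers, hzo]
  let π : T →* T ⧸ Z := QuotientGroup.mk' Z
  have hπk : ∀ x : T, π x = 1 ↔ x = 1 ∨ x = z := by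
    intro x
    rw [QuotientGroup.mk'_apply, QuotientGroup.eq_one_iff]
    constructor
    · intro hx
      obtain ⟨k, rfl⟩ := mem_zpowers_iff.mp hx
      have hz2 : z ^ (2 : ℤ) = 1 := by
        rw [show (2 : ℤ) = ((2 : ℕ) : ℤ) from rfl, zpow_natCast, ← hzo, pow_orderOf_eq_one]
      rcases Int.even_or_odd k with ⟨m, rfl⟩ | ⟨m, rfl⟩
      · left; rw [← two_mul, zpow_mul, hz2, one_zpow]
      · right; rw [zpow_add, zpow_one, zpow_mul, hz2, one_zpow, one_mul]
    · rintro (rfl | rfl)
      · exact one_mem _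
      · exact mem_zpowers _
  have hq60 : Nat.card (T ⧸ Z) = 60 := by
    have := Z.card_eq_card_quotient_mul_card_subgroup
    rw [hT, hZcard] at this
    omega
  have hn6 : Nat.card (Sylow 5 (T ⧸ Z)) = 6 := by
    have hm := mod_eq_one_card_sylow (p := 5) (G := T ⧸ Z)
    have hd := card_sylow_dvd_of_card_eq (p := 5) (a := 1) (m := 12)
      (show Nat.card (T ⧸ Z) = 5 ^ 1 * 12 by rw [hq60]; norm_num) (by norm_num)
    have hle := Nat.le_of_dvd (by norm_num) hd
    have hne : Nat.card (Sylow 5 (T ⧸ Z)) ≠ 1 := by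
      intro h1
      obtain ⟨P⟩ : Nonempty (Sylow 5 T) := inferInstance
      have hn : ((P.mapSurjective (QuotientGroup.mk'_surjective Z) : Sylow 5 (T ⧸ Z)) :
          Subgroup (T ⧸ Z)).Normal := sylow_normal_of_card_eq_one h1 _
      rw [Sylow.coe_mapSurjective] at hn
      have hP5 : Nat.card (P : Subgroup T) = 5 := by
        simpa using card_sylow_eq (p := 5) (a := 1) (m := 24) (by rw [hT]; norm_num) (by norm_num) P
      have hPn : (P : Subgroup T).Normal := ⟨fun a ha g => by
        have h2 := hn.conj_mem (π a) (mem_map_of_mem _ ha) (π g)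
        obtain ⟨b, hb, e⟩ := h2
        have hb5 : ∀ c ∈ (P : Subgroup T), c ^ 5 = 1 := fun c hc =>
          orderOf_dvd_iff_pow_eq_one.mp (hP5 ▸ (P : Subgroup T).orderOf_dvd_natCard hc)
        have e' : π (b⁻¹ * (g * a * g⁻¹)) = 1 := by
          rw [map_mul, map_inv, map_mul, map_mul, map_inv]
          exact inv_mul_eq_one.mpr e
        rcases (hπk _).mp e' with e'' | e''
        · rw [inv_mul_eq_one] at e''
          rwa [← e'']
        · exfalso
          have hgz : g * a * g⁻¹ = b * z := by rw [← e'']; group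
          have h5 : (g * a * g⁻¹) ^ 5 = 1 := by rw [conj_pow, hb5 a ha]; group
          rw [hgz, (show Commute b z from hZc z (mem_zpowers z) b).mul_pow, hb5 b hb, one_mul,
            ← orderOf_dvd_iff_pow_eq_one, hzo] at h5
          norm_num at h5⟩
      exact absurd (hn5.symm.trans (card_sylow_eq_one_of_normal P hPn)) (by norm_num)
    rcases (show Nat.card (Sylow 5 (T ⧸ Z)) = 6 ∨ Nat.card (Sylow 5 (T ⧸ Z)) = 11 by omega)
      with h | h
    · exact h
    · rw [h] at hd
      norm_num at hd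
  have := Cfsg.Agent.S3669.simple_of_six hq60 hn6
  obtain ⟨e⟩ := Cfsg.Agent.S0494.result (G := T ⧸ Z) hq60
  let ψ : T →* A5 := e.toMonoidHom.comp π
  have hψk : ∀ x : T, ψ x = 1 ↔ x = 1 ∨ x = z := fun x => by
    show e (π x) = 1 ↔ _
    rw [e.map_eq_one_iff, hπk]
  have hψs : Function.Surjective ψ := e.surjective.comp (QuotientGroup.mk'_surjective Z)
  -- the involution outside `Z`
  let j : T := ⟨j₀, mem_centralizer_singleton_iff.mpr hjt⟩
  have hjj : j * j = 1 := Subtype.ext (by
    show j₀ * j₀ = 1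
    rw [← pow_two, ← hj2, pow_orderOf_eq_one])
  have hψj : ψ j ≠ 1 := fun h => by
    rcases (hψk j).mp h with e | e
    · have : j₀ = 1 := congrArg Subtype.val e
      rw [this, orderOf_one] at hj2
      omega
    · exact hjne (congrArg Subtype.val e)
  have hzz : z * z = 1 := by rw [← pow_two, ← hzo, pow_orderOf_eq_one]
  have hexp : ∀ x : T, x ^ 8 = 1 → x * x = 1 := by
    intro x hx
    have hb := a5_two_elt (ψ x) (by rw [← map_pow, hx, map_one])
    by_cases h1 : ψ x = 1
    · rcases (hψk x).mp h1 with rfl | rfl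
      · rw [one_mul]
      · exact hzz
    obtain ⟨g, hg⟩ := a5_invol_conj (ψ j) (by rw [← map_mul, hjj, map_one]) hψj (ψ x) hb h1
    obtain ⟨g', rfl⟩ := hψs g
    have hw : ψ ((g' * j * g'⁻¹)⁻¹ * x) = 1 := by
      rw [map_mul, map_inv, map_mul, map_mul, map_inv, hg, inv_mul_cancel]
    have hw2 : g' * j * g'⁻¹ * (g' * j * g'⁻¹) = 1 := by
      calc g' * j * g'⁻¹ * (g' * j * g'⁻¹) = g' * (j * j) * g'⁻¹ := by group
        _ = 1 := by rw [hjj]; group
    rcases (hψk _).mp hw with e | e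
    · rw [inv_mul_eq_one] at e
      rw [← e]; exact hw2
    · have ex : x = g' * j * g'⁻¹ * z := by rw [← e]; group
      have hc := hZc z (mem_zpowers z) (g' * j * g'⁻¹)
      calc x * x = g' * j * g'⁻¹ * z * (g' * j * g'⁻¹ * z) := by rw [ex]
        _ = g' * j * g'⁻¹ * (z * (g' * j * g'⁻¹)) * z := by group
        _ = g' * j * g'⁻¹ * (g' * j * g'⁻¹) * (z * z) := by rw [← hc]; group
        _ = 1 := by rw [hw2, hzz, one_mul]
  obtain ⟨S⟩ : Nonempty (Sylow 2 T) := inferInstance
  have hS8 : Nat.card (S : Subgroup T) = 8 := by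
    simpa using card_sylow_eq (p := 2) (a := 3) (m := 15) (by rw [hT]; norm_num) (by norm_num) S
  have hSidx : (S : Subgroup T).index = 15 := by
    have := (S : Subgroup T).card_mul_index
    rw [hS8, hT] at this
    omega
  have hSsq : ∀ a ∈ (S : Subgroup T), a * a = 1 := fun a ha =>
    hexp a (orderOf_dvd_iff_pow_eq_one.mp (hS8 ▸ (S : Subgroup T).orderOf_dvd_natCard ha))
  have hScomm : IsMulCommutative (S : Subgroup T) := ⟨⟨fun a b => Subtype.ext (by
    show (a : T) * b = b * a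
    have h1 := hSsq _ a.2
    have h2 := hSsq _ b.2
    have h3 := hSsq _ (mul_mem a.2 b.2)
    calc (a : T) * b = a * (a * b * (a * b)) * b := by rw [h3, mul_one]
      _ = (a : T) * a * (b * a) * (b * b) := by group
      _ = b * a := by rw [h1, h2, one_mul, mul_one])⟩⟩
  open scoped IsMulCommutative in
  let τ : T →* (S : Subgroup T) := MonoidHom.transfer (MonoidHom.id (S : Subgroup T))
  have key : ∀ (k : ℕ) (g₀ : T), g₀⁻¹ * z ^ k * g₀ ∈ (S : Subgroup T) →
      g₀⁻¹ * z ^ k * g₀ = z ^ k := fun k g₀ _ => by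
    rw [mul_assoc, ← hZc _ (pow_mem (mem_zpowers z) k) g₀, inv_mul_cancel_left]
  have hτz : ((τ z : (S : Subgroup T)) : T) = z := by
    have h1 : τ z = ⟨z ^ (S : Subgroup T).index, MonoidHom.transfer_eq_pow_aux z key⟩ :=
      MonoidHom.transfer_eq_pow (MonoidHom.id (S : Subgroup T)) z key
    rw [h1]
    show z ^ (S : Subgroup T).index = z
    rw [hSidx, show 15 = 2 * 7 + 1 from rfl, pow_succ, pow_mul, pow_two, hzz, one_pow, one_mul]
  have hz1 : z ≠ 1 := fun e => by rw [e, orderOf_one] at hzo; omega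
  have hzK : z ∉ τ.ker := fun h => hz1 (by
    rw [← hτz, MonoidHom.mem_ker.mp h]; rfl)
  set K := τ.ker with hK
  let ψK : K →* A5 := ψ.comp K.subtype
  have hinj : Function.Injective ψK := (injective_iff_map_eq_one ψK).mpr fun a ha => by
    rcases (hψk a.1).mp ha with e | e
    · exact Subtype.ext e
    · exact absurd (e ▸ a.2) hzK
  have hsurj : Function.Surjective ψK := by
    have hn : (K.map ψ).Normal := Subgroup.Normal.map (MonoidHom.normal_ker τ) ψ hψs
    rcases (alternatingGroup.isSimpleGroup_five).eq_bot_or_eq_top_of_normal _ hn with h | h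
    · exfalso
      have hK1 : K = ⊥ := by
        rw [eq_bot_iff_forall]
        intro a ha
        have : ψ a = 1 := by
          rw [← mem_bot, ← h]; exact mem_map_of_mem _ ha
        exact ((hψk a).mp this).resolve_right fun e => hzK (e ▸ ha)
      have hle := Nat.card_le_card_of_injective τ
        ((MonoidHom.ker_eq_bot_iff τ).mp hK1)
      rw [hT, hS8] at hle
      omega
    · intro b
      obtain ⟨a, ha, e⟩ : b ∈ K.map ψ := h ▸ mem_top b
      exact ⟨⟨a, ha⟩, e⟩
  let f : K ≃* A5 := MulEquiv.ofBijective ψK ⟨hinj, hsurj⟩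
  refine ⟨T.subtype.comp (K.subtype.comp f.symm.toMonoidHom),
    T.subtype_injective.comp (K.subtype_injective.comp f.symm.injective),
    fun a => mem_centralizer_singleton_iff.mp ((f.symm a).1).2,
    fun a e => hzK ((Subtype.ext e : ((f.symm a).1 : T) = z) ▸ (f.symm a).2), fun x hx => ?_⟩
  refine ⟨ψ ⟨x, hx⟩, ?_⟩
  set a := f.symm (ψ ⟨x, hx⟩) with ha
  have hψa : ψ a.1 = ψ ⟨x, hx⟩ := f.apply_symm_apply _
  rcases (hψk ((a.1)⁻¹ * ⟨x, hx⟩)).mp (by rw [map_mul, map_inv, hψa, inv_mul_cancel]) with e | e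
  · left
    exact (congrArg Subtype.val (inv_mul_eq_one.mp e)).symm
  · right
    have : (⟨x, hx⟩ : T) = z * a.1 := by
      rw [← hZc z (mem_zpowers z) a.1, ← e]; group
    exact congrArg Subtype.val this

end CfsgLib.J1Unique
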